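import Mathlib

set_option autoImplicit false
set_option linter.unusedSectionVars false

namespace Cfsg.Agent.Helper95.SylMax.Design

open Equiv Finset

variable {α : Type*} [Fintype α] [DecidableEq α]

/-- A `4`-set all of whose double transpositions lie in `K`. -/
def VS (K : Subgroup (Perm α)) (s : Finset α) : Prop :=
  s.card = 4 ∧ ∀ a b c d, a ∈ s → b ∈ s → c ∈ s → d ∈ s →
    a ≠ b → a ≠ c → a ≠ d → b ≠ c → b ≠ d → c ≠ d → swap a b * swap c d ∈ K

variable {K : Subgroup (Perm α)}

theorem VS.image {s : Finset α} (hs : VS K s) {g : Perm α} (hg : g ∈ K) :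
    VS K (s.image g) := by
  refine ⟨by rw [Finset.card_image_of_injective _ g.injective]; exact hs.1, ?_⟩
  intro a b c d ha hb hc hd hab hac had hbc hbd hcd
  rw [Finset.mem_image] at ha hb hc hd
  obtain ⟨a, ha, rfl⟩ := ha
  obtain ⟨b, hb, rfl⟩ := hb
  obtain ⟨c, hc, rfl⟩ := hc
  obtain ⟨d, hd, rfl⟩ := hd
  have hm := hs.2 a b c d ha hb hc hd (fun h => hab (by rw [h])) (fun h => hac (by rw [h]))
    (fun h => had (by rw [h])) (fun h => hbc (by rw [h])) (fun h => hbd (by rw [h]))
    (fun h => hcd (by rw [h]))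
  have e : swap (g a) (g b) * swap (g c) (g d) = g * (swap a b * swap c d) * g⁻¹ := by
    rw [swap_apply_apply, swap_apply_apply]; group
  rw [e]; exact K.mul_mem (K.mul_mem hg hm) (K.inv_mem hg)

theorem swap_comm_of_ne {a p q r : α} (h1 : a ≠ q) (h2 : a ≠ r) (h3 : p ≠ q) (h4 : p ≠ r) :
    swap a p * swap q r = swap q r * swap a p := by
  ext x
  simp only [Perm.coe_mul, Function.comp_apply]
  by_cases hxa : x = a
  · subst hxa
    rw [swap_apply_of_ne_of_ne h1 h2, swap_apply_left, swap_apply_of_ne_of_ne h3 h4]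
  by_cases hxp : x = p
  · subst hxp
    rw [swap_apply_of_ne_of_ne h3 h4, swap_apply_right, swap_apply_of_ne_of_ne h1 h2]
  rw [swap_apply_of_ne_of_ne hxa hxp]
  by_cases hxq : x = q
  · subst hxq
    rw [swap_apply_left, swap_apply_of_ne_of_ne (Ne.symm h2) (Ne.symm h4)]
  by_cases hxr : x = r
  · subst hxr
    rw [swap_apply_right, swap_apply_of_ne_of_ne (Ne.symm h1) (Ne.symm h3)]
  rw [swap_apply_of_ne_of_ne hxq hxr, swap_apply_of_ne_of_ne hxa hxp]

theorem three_cycle_of_inter_three {s t : Finset α} (hs : VS K s) (ht : VS K t)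
    (h : (s ∩ t).card = 3) : ∃ g ∈ K, g.IsThreeCycle := by
  obtain ⟨a, p, q, hap, haq, hpq, hst⟩ := Finset.card_eq_three.mp h
  have ha : a ∈ s ∩ t := by rw [hst]; simp
  have hp : p ∈ s ∩ t := by rw [hst]; simp
  have hq : q ∈ s ∩ t := by rw [hst]; simp
  rw [Finset.mem_inter] at ha hp hq
  have h1 : (s \ t).card = 1 := by
    have := Finset.card_sdiff_add_card_inter s t
    rw [h, hs.1] at this; omega
  have h2 : (t \ s).card = 1 := by
    have := Finset.card_sdiff_add_card_inter t s
    rw [Finset.inter_comm, h, ht.1] at this; omega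
  obtain ⟨r, hr⟩ := Finset.card_eq_one.mp h1
  obtain ⟨e, he⟩ := Finset.card_eq_one.mp h2
  have hr' : r ∈ s \ t := by rw [hr]; simp
  have he' : e ∈ t \ s := by rw [he]; simp
  rw [Finset.mem_sdiff] at hr' he'
  have hra : r ≠ a := fun h => hr'.2 (h ▸ ha.2)
  have hrp : r ≠ p := fun h => hr'.2 (h ▸ hp.2)
  have hrq : r ≠ q := fun h => hr'.2 (h ▸ hq.2)
  have hea : e ≠ a := fun h => he'.2 (h ▸ ha.1)
  have hep : e ≠ p := fun h => he'.2 (h ▸ hp.1)
  have heq : e ≠ q := fun h => he'.2 (h ▸ hq.1)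
  have hre : r ≠ e := fun h => he'.2 (h ▸ hr'.1)
  have hx := hs.2 a p q r ha.1 hp.1 hq.1 hr'.1 hap haq (Ne.symm hra) hpq (Ne.symm hrp) (Ne.symm hrq)
  have hy := ht.2 a p q e ha.2 hp.2 hq.2 he'.1 hap haq (Ne.symm hea) hpq (Ne.symm hep) (Ne.symm heq)
  refine ⟨(swap a p * swap q r) * (swap a p * swap q e), K.mul_mem hx hy, ?_⟩
  have e1 : (swap a p * swap q r) * (swap a p * swap q e) = swap q r * swap q e := by
    rw [swap_comm_of_ne haq (Ne.symm hra) hpq (Ne.symm hrp)]
    rw [mul_assoc, ← mul_assoc (swap a p), swap_mul_self, one_mul]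
  rw [e1]
  exact Perm.isThreeCycle_swap_mul_swap_same (Ne.symm hrq) (Ne.symm heq) hre

theorem apply_of_not_mem {a b c d x : α} (ha : x ≠ a) (hb : x ≠ b) (hc : x ≠ c) (hd : x ≠ d) :
    (swap a b * swap c d) x = x := by
  simp only [Perm.coe_mul, Function.comp_apply]
  rw [swap_apply_of_ne_of_ne hc hd, swap_apply_of_ne_of_ne ha hb]

theorem three_cycle_of_inter_one {s t : Finset α} (hs : VS K s) (ht : VS K t)
    (h : (s ∩ t).card = 1) : ∃ g ∈ K, g.IsThreeCycle := by
  obtain ⟨a, hst⟩ := Finset.card_eq_one.mp h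
  have ha : a ∈ s ∩ t := by rw [hst]; simp
  rw [Finset.mem_inter] at ha
  have h3 : (s.erase a).card = 3 := by rw [Finset.card_erase_of_mem ha.1, hs.1]
  obtain ⟨b, c, d, hbc, hbd, hcd, hsa⟩ := Finset.card_eq_three.mp h3
  have hb : b ∈ s.erase a := by rw [hsa]; simp
  have hc : c ∈ s.erase a := by rw [hsa]; simp
  have hd : d ∈ s.erase a := by rw [hsa]; simp
  rw [Finset.mem_erase] at hb hc hd
  have hx := hs.2 a b c d ha.1 hb.2 hc.2 hd.2 (Ne.symm hb.1) (Ne.symm hc.1) (Ne.symm hd.1)
    hbc hbd hcd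
  -- elements of `s` are `a b c d`
  have hs_el : ∀ z ∈ s, z = a ∨ z = b ∨ z = c ∨ z = d := by
    intro z hz
    by_cases hza : z = a
    · exact Or.inl hza
    · have : z ∈ s.erase a := Finset.mem_erase.mpr ⟨hza, hz⟩
      rw [hsa] at this
      simp only [Finset.mem_insert, Finset.mem_singleton] at this
      exact Or.inr this
  have hnot : ∀ z ∈ t, z ≠ a → z ∉ s := by
    intro z hz hza hzs
    have : z ∈ s ∩ t := Finset.mem_inter.mpr ⟨hzs, hz⟩
    rw [hst, Finset.mem_singleton] at this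
    exact hza this
  have hbt : b ∉ t := fun hbt => hnot b hbt hb.1 hb.2
  set x := swap a b * swap c d with hxdef
  have hxa : x a = b := by
    rw [hxdef]
    simp only [Perm.coe_mul, Function.comp_apply]
    rw [swap_apply_of_ne_of_ne (Ne.symm hc.1) (Ne.symm hd.1), swap_apply_left]
  have hxb : x b = a := by
    rw [hxdef]
    simp only [Perm.coe_mul, Function.comp_apply]
    rw [swap_apply_of_ne_of_ne hbc hbd, swap_apply_right]
  have hti := ht.image hx
  have hinter : t ∩ t.image x = t.erase a := by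
    ext z
    simp only [Finset.mem_inter, Finset.mem_image, Finset.mem_erase]
    constructor
    · rintro ⟨hz, w, hw, hwz⟩
      refine ⟨?_, hz⟩
      rintro rfl
      have : w = b := by
        apply x.injective
        rw [hwz, hxb]
      exact hbt (this ▸ hw)
    · rintro ⟨hza, hz⟩
      refine ⟨hz, z, hz, ?_⟩
      have hzs := hnot z hz hza
      apply apply_of_not_mem hza
      · rintro rfl; exact hzs hb.2
      · rintro rfl; exact hzs hc.2
      · rintro rfl; exact hzs hd.2
  apply three_cycle_of_inter_three ht hti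
  rw [hinter, Finset.card_erase_of_mem ha.2, ht.1]

theorem inter_card {s t : Finset α} (hs : VS K s) (ht : VS K t) (hne : s ≠ t)
    (hno : ∀ g ∈ K, ¬ g.IsThreeCycle) : (s ∩ t).card = 0 ∨ (s ∩ t).card = 2 := by
  have hle : (s ∩ t).card ≤ 3 := by
    by_contra hcon
    have h4 : (s ∩ t).card = 4 := by
      have : (s ∩ t).card ≤ s.card := Finset.card_le_card Finset.inter_subset_left
      rw [hs.1] at this; omega
    have e1 : s ∩ t = s :=
      Finset.eq_of_subset_of_card_le Finset.inter_subset_left (by rw [h4, hs.1])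
    have e2 : s ∩ t = t :=
      Finset.eq_of_subset_of_card_le Finset.inter_subset_right (by rw [h4, ht.1])
    exact hne (e1.symm.trans e2)
  have h1 : (s ∩ t).card ≠ 1 := fun h => by
    obtain ⟨g, hg, hg3⟩ := three_cycle_of_inter_one hs ht h
    exact hno g hg hg3
  have h3 : (s ∩ t).card ≠ 3 := fun h => by
    obtain ⟨g, hg, hg3⟩ := three_cycle_of_inter_three hs ht h
    exact hno g hg hg3
  omega

/-- degree five -/
theorem three_cycle_of_card_five (hn : Fintype.card α = 5)
    (htr : ∀ u v : α, ∃ g ∈ K, g u = v) {s : Finset α} (hs : VS K s) :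
    ∃ g ∈ K, g.IsThreeCycle := by
  by_contra hcon
  push_neg at hcon
  have hne : s.Nonempty := by rw [← Finset.card_pos, hs.1]; norm_num
  obtain ⟨a, ha⟩ := hne
  have hz : ∃ z, z ∉ s := by
    by_contra h
    push_neg at h
    have : s = Finset.univ := Finset.eq_univ_iff_forall.mpr h
    have h4 := hs.1
    rw [this, Finset.card_univ, hn] at h4
    omega
  obtain ⟨z, hz⟩ := hz
  obtain ⟨g, hg, hgz⟩ := htr a z
  have ht := hs.image hg
  have hne : s ≠ s.image g := by
    intro h
    apply hz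
    rw [h, ← hgz]
    exact Finset.mem_image_of_mem g ha
  have h1 := inter_card hs ht hne hcon
  have h2 := Finset.card_union_add_card_inter s (s.image g)
  have h3 : (s ∪ s.image g).card ≤ 5 := by
    rw [← hn]; exact Finset.card_le_univ _
  rw [hs.1, ht.1] at h2
  omega

end Cfsg.Agent.Helper95.SylMax.Design
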