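import Mathlib
import Cfsg.Agent.Lib.Helper95.SylMax.Design

set_option autoImplicit false
set_option linter.unusedSectionVars false

namespace Cfsg.Agent.Helper95.SylMax.Design

open Equiv Finset

variable {α : Type*} [Fintype α] [DecidableEq α] {K : Subgroup (Perm α)}

theorem no_design (hn : 9 ≤ Fintype.card α)
    (h2 : ∀ u v u' v' : α, u ≠ v → u' ≠ v' → ∃ g ∈ K, g u = u' ∧ g v = v')
    (hno : ∀ g ∈ K, ¬ g.IsThreeCycle) {s1 : Finset α} (hs1 : VS K s1) : False := by
  classical
  obtain ⟨a, ha⟩ : s1.Nonempty := by rw [← Finset.card_pos, hs1.1]; norm_num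
  set Va : Finset (Finset α) := Finset.univ.filter (fun s => VS K s ∧ a ∈ s) with hVa
  have hmemVa : ∀ t, t ∈ Va ↔ VS K t ∧ a ∈ t := by
    intro t; rw [hVa]; simp
  set F : α → Finset (Finset α) := fun z => Va.filter (fun s => z ∈ s) with hF
  have hmemF : ∀ z t, t ∈ F z ↔ t ∈ Va ∧ z ∈ t := by
    intro z t; rw [hF]; simp
  have hF_le : ∀ z z', z ≠ a → z' ≠ a → (F z).card ≤ (F z').card := by
    intro z z' hz hz'
    obtain ⟨g, hg, hga, hgz⟩ := h2 a z a z' (Ne.symm hz) (Ne.symm hz')
    apply Finset.card_le_card_of_injOn (fun s => s.image g)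
    · intro s hs
      have hs' := (hmemF z s).mp hs
      have hs'' := (hmemVa s).mp hs'.1
      show s.image g ∈ F z'
      rw [hmemF, hmemVa]
      refine ⟨⟨hs''.1.image hg, ?_⟩, ?_⟩
      · rw [← hga]; exact Finset.mem_image_of_mem g hs''.2
      · rw [← hgz]; exact Finset.mem_image_of_mem g hs'.2
    · intro s _ t _ hst
      exact Finset.image_injective g.injective hst
  have hF_eq : ∀ z z', z ≠ a → z' ≠ a → (F z).card = (F z').card :=
    fun z z' hz hz' => le_antisymm (hF_le z z' hz hz') (hF_le z' z hz' hz)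
  -- a point outside `s1`
  obtain ⟨z0, hz0⟩ : ∃ z, z ∉ s1 := by
    by_contra h
    push_neg at h
    have : s1 = Finset.univ := Finset.eq_univ_iff_forall.mpr h
    have h4 := hs1.1
    rw [this, Finset.card_univ] at h4
    omega
  have hz0a : z0 ≠ a := fun h => hz0 (h ▸ ha)
  set lam := (F z0).card with hlam
  have hFl : ∀ z, z ≠ a → (F z).card = lam := fun z hz => hF_eq z z0 hz hz0a
  have hs1V : s1 ∈ Va := (hmemVa s1).mpr ⟨hs1, ha⟩
  have hint : ∀ t ∈ Va, t ≠ s1 → (t ∩ s1).card = 2 := by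
    intro t ht hne
    have ht' := (hmemVa t).mp ht
    rcases inter_card ht'.1 hs1 hne hno with h | h
    · exfalso
      have hmem : a ∈ t ∩ s1 := Finset.mem_inter.mpr ⟨ht'.2, ha⟩
      rw [Finset.card_eq_zero] at h
      rw [h] at hmem
      simp at hmem
    · exact h
  have h3 : (s1.erase a).card = 3 := by rw [Finset.card_erase_of_mem ha, hs1.1]
  -- every other member of `Va` meets `s1.erase a`
  have hmeet : ∀ t ∈ Va, t ≠ s1 → ∃ y, y ∈ s1.erase a ∧ y ∈ t := by
    intro t ht hne
    have h2c := hint t ht hne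
    have hat : a ∈ t := ((hmemVa t).mp ht).2
    have h1 : ((t ∩ s1).erase a).card = 1 := by
      rw [Finset.card_erase_of_mem (Finset.mem_inter.mpr ⟨hat, ha⟩), h2c]
    obtain ⟨y, hy⟩ := Finset.card_eq_one.mp h1
    have hy' : y ∈ (t ∩ s1).erase a := by rw [hy]; simp
    rw [Finset.mem_erase, Finset.mem_inter] at hy'
    exact ⟨y, Finset.mem_erase.mpr ⟨hy'.1, hy'.2.2⟩, hy'.2.1⟩
  -- `lam ≤ 3`
  have hlam3 : lam ≤ 3 := by
    rw [← h3, hlam]
    apply Finset.card_le_card_of_forall_subsingleton (fun (t : Finset α) (y : α) => y ∈ t)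
    · intro t ht
      have ht' := (hmemF z0 t).mp ht
      have hne : t ≠ s1 := fun h => hz0 (h ▸ ht'.2)
      exact hmeet t ht'.1 hne
    · intro y hy t ht t' ht'
      simp only [Set.mem_ofPred_eq] at ht ht'
      by_contra hne
      have h1 := (hmemF z0 t).mp ht.1
      have h1' := (hmemF z0 t').mp ht'.1
      have hV := (hmemVa t).mp h1.1
      have hV' := (hmemVa t').mp h1'.1
      have hy' := Finset.mem_erase.mp hy
      have hyz : y ≠ z0 := fun h => hz0 (h ▸ hy'.2)
      have hc : 2 < (t ∩ t').card := by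
        rw [Finset.two_lt_card]
        exact ⟨a, Finset.mem_inter.mpr ⟨hV.2, hV'.2⟩, z0, Finset.mem_inter.mpr ⟨h1.2, h1'.2⟩,
          y, Finset.mem_inter.mpr ⟨ht.2, ht'.2⟩, Ne.symm hz0a, Ne.symm hy'.1, Ne.symm hyz⟩
      rcases inter_card hV.1 hV'.1 hne hno with h | h <;> omega
  -- `1 ≤ lam`
  have hlam1 : 1 ≤ lam := by
    have hne : (s1.erase a).Nonempty := by rw [← Finset.card_pos, h3]; norm_num
    obtain ⟨p, hp⟩ := hne
    have hp' := Finset.mem_erase.mp hp
    rw [← hFl p hp'.1, Nat.succ_le_iff, Finset.card_pos]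
    exact ⟨s1, (hmemF p s1).mpr ⟨hs1V, hp'.2⟩⟩
  -- first count
  set Z : Finset α := Finset.univ \ s1 with hZ
  set W : Finset (Finset α) := Va.erase s1 with hW
  have hZcard : Z.card = Fintype.card α - 4 := by
    rw [hZ, Finset.card_sdiff_of_subset (Finset.subset_univ _), Finset.card_univ, hs1.1]
  have c1 : Z.card * lam = W.card * 2 := by
    apply Finset.card_mul_eq_card_mul (fun (z : α) (t : Finset α) => z ∈ t)
    · intro z hz
      have hz' : z ∉ s1 := by
        rw [hZ, Finset.mem_sdiff] at hz; exact hz.2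
      have hza : z ≠ a := fun h => hz' (h ▸ ha)
      rw [← hFl z hza]
      congr 1
      ext t
      rw [Finset.mem_bipartiteAbove, hmemF, hW, Finset.mem_erase]
      constructor
      · rintro ⟨⟨_, h1⟩, h2⟩; exact ⟨h1, h2⟩
      · rintro ⟨h1, h2⟩
        exact ⟨⟨fun h => hz' (h ▸ h2), h1⟩, h2⟩
    · intro t ht
      rw [hW, Finset.mem_erase] at ht
      have h2c := hint t ht.2 ht.1
      have e : Z.bipartiteBelow (fun (z : α) (t : Finset α) => z ∈ t) t = t \ s1 := by
        ext z
        rw [Finset.mem_bipartiteBelow, hZ, Finset.mem_sdiff, Finset.mem_sdiff]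
        constructor
        · rintro ⟨⟨_, h1⟩, h2⟩; exact ⟨h2, h1⟩
        · rintro ⟨h1, h2⟩; exact ⟨⟨Finset.mem_univ _, h2⟩, h1⟩
      rw [e]
      have := Finset.card_sdiff_add_card_inter t s1
      rw [h2c, ((hmemVa t).mp ht.2).1.1] at this
      omega
  -- second count
  have c2 : W.card * 1 ≤ (s1.erase a).card * (lam - 1) := by
    apply Finset.card_mul_le_card_mul (fun (t : Finset α) (y : α) => y ∈ t)
    · intro t ht
      rw [hW, Finset.mem_erase] at ht
      obtain ⟨y, hy, hyt⟩ := hmeet t ht.2 ht.1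
      rw [Nat.succ_le_iff, Finset.card_pos]
      exact ⟨y, by rw [Finset.mem_bipartiteAbove]; exact ⟨hy, hyt⟩⟩
    · intro y hy
      have hy' := Finset.mem_erase.mp hy
      have e : W.bipartiteBelow (fun (t : Finset α) (y : α) => y ∈ t) y = (F y).erase s1 := by
        ext t
        rw [Finset.mem_bipartiteBelow, hW, Finset.mem_erase, Finset.mem_erase, hmemF]
        tauto
      rw [e, Finset.card_erase_of_mem ((hmemF y s1).mpr ⟨hs1V, hy'.2⟩), hFl y hy'.1]
  rw [h3] at c2
  rw [hZcard] at c1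
  have h5 : 5 ≤ Fintype.card α - 4 := by omega
  have h6 : 5 * lam ≤ (Fintype.card α - 4) * lam := Nat.mul_le_mul_right _ h5
  interval_cases lam <;> omega

/-- A `2`-transitive group of degree `5` or `≥ 9` containing a Klein four group supported
on four points contains a three-cycle. -/
theorem exists_three_cycle (hn : Fintype.card α = 5 ∨ 9 ≤ Fintype.card α)
    (h2 : ∀ u v u' v' : α, u ≠ v → u' ≠ v' → ∃ g ∈ K, g u = u' ∧ g v = v')
    {s1 : Finset α} (hs1 : VS K s1) : ∃ g ∈ K, g.IsThreeCycle := by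
  rcases hn with hn | hn
  · apply three_cycle_of_card_five hn _ hs1
    intro u v
    have hcard : 1 < Fintype.card α := by omega
    by_cases huv : u = v
    · subst huv
      exact ⟨1, K.one_mem, rfl⟩
    · obtain ⟨g, hg, hgu, _⟩ := h2 u v v u huv (Ne.symm huv)
      exact ⟨g, hg, hgu⟩
  · by_contra hcon
    push_neg at hcon
    exact no_design hn h2 hcon hs1

end Cfsg.Agent.Helper95.SylMax.Design
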