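import Mathlib
import Cfsg.Agent.Lib.Helper95.SylMax.Design2

set_option autoImplicit false
set_option linter.unusedSectionVars false

namespace Cfsg.Agent.Helper95.SylMax.InstV4

open MulAction Equiv
open scoped Pointwise

variable {α : Type*} [Fintype α] [DecidableEq α]

theorem eight {K : Subgroup (Perm α)} {a b c d : α} (hac : a ≠ c) (had : a ≠ d) (hbc : b ≠ c)
    (hbd : b ≠ d) (h : swap a b * swap c d ∈ K) :
    swap b a * swap c d ∈ K ∧ swap a b * swap d c ∈ K ∧ swap b a * swap d c ∈ K ∧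
    swap c d * swap a b ∈ K ∧ swap d c * swap a b ∈ K ∧ swap c d * swap b a ∈ K ∧
    swap d c * swap b a ∈ K := by
  have e := Design.swap_comm_of_ne hac had hbc hbd
  refine ⟨?_, ?_, ?_, ?_, ?_, ?_, ?_⟩
  · rw [swap_comm b a]; exact h
  · rw [swap_comm d c]; exact h
  · rw [swap_comm b a, swap_comm d c]; exact h
  · rw [← e]; exact h
  · rw [swap_comm d c, ← e]; exact h
  · rw [swap_comm b a, ← e]; exact h
  · rw [swap_comm d c, swap_comm b a, ← e]; exact h

theorem VS_of_three {K : Subgroup (Perm α)} {a b c d : α} (hab : a ≠ b) (hac : a ≠ c)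
    (had : a ≠ d) (hbc : b ≠ c) (hbd : b ≠ d) (hcd : c ≠ d)
    (hx : swap a b * swap c d ∈ K) (hy : swap a c * swap b d ∈ K)
    (hz : swap a d * swap b c ∈ K) : Design.VS K {a, b, c, d} := by
  refine ⟨?_, ?_⟩
  · rw [Finset.card_insert_of_notMem, Finset.card_insert_of_notMem, Finset.card_pair hcd]
    · simp [hbc, hbd]
    · simp [hab, hac, had]
  obtain ⟨x1, x2, x3, x4, x5, x6, x7⟩ := eight hac had hbc hbd hx
  obtain ⟨y1, y2, y3, y4, y5, y6, y7⟩ := eight hab had (Ne.symm hbc) hcd hy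
  obtain ⟨z1, z2, z3, z4, z5, z6, z7⟩ := eight hab hac (Ne.symm hbd) (Ne.symm hcd) hz
  intro a' b' c' d' ha' hb' hc' hd' h1 h2 h3 h4 h5 h6
  simp only [Finset.mem_insert, Finset.mem_singleton] at ha' hb' hc' hd'
  rcases ha' with rfl | rfl | rfl | rfl <;> rcases hb' with rfl | rfl | rfl | rfl <;>
    rcases hc' with rfl | rfl | rfl | rfl <;> rcases hd' with rfl | rfl | rfl | rfl <;>
    first
    | exact absurd rfl h1 | exact absurd rfl h2 | exact absurd rfl h3
    | exact absurd rfl h4 | exact absurd rfl h5 | exact absurd rfl h6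
    | assumption

theorem dswap_sq {a b c d : α} (hac : a ≠ c) (had : a ≠ d) (hbc : b ≠ c) (hbd : b ≠ d) :
    (swap a b * swap c d) * (swap a b * swap c d) = 1 := by
  have e0 := Design.swap_comm_of_ne hac had hbc hbd
  nth_rewrite 2 [e0]
  rw [mul_assoc, ← mul_assoc (swap c d), swap_mul_self, one_mul, swap_mul_self]

theorem dswap_mul {a b c d : α} (hab : a ≠ b) (hac : a ≠ c) (had : a ≠ d) (hbc : b ≠ c)
    (hbd : b ≠ d) (hcd : c ≠ d) :
    (swap a b * swap c d) * (swap a c * swap b d) = swap a d * swap b c := by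
  ext w
  simp only [Perm.coe_mul, Function.comp_apply]
  by_cases hwa : w = a
  · rw [hwa, swap_apply_of_ne_of_ne hab had, swap_apply_left a c, swap_apply_left c d,
      swap_apply_of_ne_of_ne (Ne.symm had) (Ne.symm hbd), swap_apply_of_ne_of_ne hab hac,
      swap_apply_left a d]
  by_cases hwb : w = b
  · rw [hwb, swap_apply_left b d, swap_apply_of_ne_of_ne (Ne.symm had) (Ne.symm hcd),
      swap_apply_right c d, swap_apply_of_ne_of_ne (Ne.symm hac) (Ne.symm hbc),
      swap_apply_left b c, swap_apply_of_ne_of_ne (Ne.symm hac) hcd]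
  by_cases hwc : w = c
  · rw [hwc, swap_apply_of_ne_of_ne (Ne.symm hbc) hcd, swap_apply_right a c,
      swap_apply_of_ne_of_ne hac had, swap_apply_left a b, swap_apply_right b c,
      swap_apply_of_ne_of_ne (Ne.symm hab) hbd]
  by_cases hwd : w = d
  · rw [hwd, swap_apply_right b d, swap_apply_of_ne_of_ne (Ne.symm hab) hbc,
      swap_apply_of_ne_of_ne hbc hbd, swap_apply_right a b,
      swap_apply_of_ne_of_ne (Ne.symm hbd) (Ne.symm hcd), swap_apply_right a d]
  rw [swap_apply_of_ne_of_ne hwb hwd, swap_apply_of_ne_of_ne hwa hwc,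
    swap_apply_of_ne_of_ne hwc hwd, swap_apply_of_ne_of_ne hwa hwb,
    swap_apply_of_ne_of_ne hwb hwc, swap_apply_of_ne_of_ne hwa hwd]

/-- Sylow: a `p`-subgroup has a conjugate inside a given Sylow subgroup. -/
theorem exists_conj_le {G : Type*} [Group G] [Finite G] {p : ℕ} [Fact p.Prime] (R : Sylow p G)
    (V : Subgroup G) (hV : IsPGroup p V) : ∃ g : G, ∀ v ∈ V, g * v * g⁻¹ ∈ R := by
  obtain ⟨Q, hQ⟩ := hV.exists_le_sylow
  obtain ⟨g, hg⟩ := MulAction.exists_smul_eq G Q R
  refine ⟨g, fun v hv => ?_⟩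
  have h1 : v ∈ (Q : Subgroup G) := hQ hv
  have h2 : g * v * g⁻¹ ∈ ((g • Q : Sylow p G) : Subgroup G) := by
    rw [Sylow.coe_subgroup_smul]
    rw [Subgroup.mem_pointwise_smul_iff_inv_smul_mem]
    simp only [MulAut.smul_def, MulAut.inv_apply, MulAut.conj_symm_apply]
    convert h1 using 1
    group
  rw [hg] at h2
  exact h2

end Cfsg.Agent.Helper95.SylMax.InstV4
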