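import Mathlib

set_option autoImplicit false

namespace Cfsg.Agent.Helper95.SylMax.Parity

open Equiv Finset

theorem choose_two_pow_succ {k m : ℕ} (h : ¬ 2 ∣ (2 ^ k + 1).choose m) :
    m = 0 ∨ m = 1 ∨ m = 2 ^ k ∨ m = 2 ^ k + 1 := by
  by_contra hcon
  push_neg at hcon
  obtain ⟨h0, h1, h2, h3⟩ := hcon
  obtain ⟨j, rfl⟩ : ∃ j, m = j + 1 := ⟨m - 1, by omega⟩
  apply h
  rw [Nat.choose_succ_succ]
  have e1 : 2 ∣ (2 ^ k).choose j :=
    Nat.Prime.dvd_choose_pow Nat.prime_two (by omega) (by omega)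
  have e2 : 2 ∣ (2 ^ k).choose (j + 1) :=
    Nat.Prime.dvd_choose_pow Nat.prime_two (by omega) (by omega)
  exact dvd_add e1 e2

theorem choose_half {h : ℕ} (hh : 1 ≤ h) : 2 ∣ (2 * h).choose h := by
  have := Nat.two_dvd_centralBinom_of_one_le hh
  rwa [Nat.centralBinom_eq_two_mul_choose] at this

theorem odd_doubleFactorial (h : ℕ) : ¬ 2 ∣ Nat.doubleFactorial (2 * h + 1) := by
  induction h with
  | zero => norm_num
  | succ h ih =>
    have : 2 * (h + 1) + 1 = (2 * h + 1) + 2 := by ring
    rw [this, Nat.doubleFactorial_add_two]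
    intro hd
    rcases (Nat.Prime.dvd_mul Nat.prime_two).mp hd with h1 | h1
    · omega
    · exact ih h1

variable {α : Type*} [Fintype α] [DecidableEq α]

theorem odd_card_fpf {h : ℕ} (hh : 1 ≤ h) (hα : Fintype.card α = 2 * h) :
    ¬ 2 ∣ #({g | g.cycleType = Multiset.replicate h 2} : Finset (Perm α)) := by
  have key := Equiv.Perm.card_of_cycleType_mul_eq α (Multiset.replicate h 2)
  have hsum : (Multiset.replicate h 2).sum = 2 * h := by simp [mul_comm]
  have hprod : (Multiset.replicate h 2).prod = 2 ^ h := by simp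
  have hfin : (Multiset.replicate h 2).toFinset = {2} := by
    ext x
    simp only [Multiset.mem_toFinset, Multiset.mem_replicate, Finset.mem_singleton]
    constructor
    · rintro ⟨_, rfl⟩; rfl
    · rintro rfl; exact ⟨by omega, rfl⟩
  rw [hsum, hprod, hfin, Finset.prod_singleton, Multiset.count_replicate_self, hα, Nat.sub_self,
    Nat.factorial_zero, one_mul, if_pos] at key
  swap
  · refine ⟨le_refl _, ?_⟩
    intro a ha
    rw [Multiset.mem_replicate] at ha
    omega
  -- (2h)! = (2h)‼ * (2h-1)‼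
  obtain ⟨j, rfl⟩ : ∃ j, h = j + 1 := ⟨h - 1, by omega⟩
  have e1 : (2 * (j + 1)).factorial
      = Nat.doubleFactorial (2 * (j + 1)) * Nat.doubleFactorial (2 * j + 1) := by
    have : 2 * (j + 1) = (2 * j + 1) + 1 := by ring
    rw [this]
    exact Nat.factorial_eq_mul_doubleFactorial (2 * j + 1)
  have e2 : Nat.doubleFactorial (2 * (j + 1)) = 2 ^ (j + 1) * (j + 1).factorial :=
    Nat.doubleFactorial_two_mul (j + 1)
  rw [e1, e2] at key
  have hpos : 0 < 2 ^ (j + 1) * (j + 1).factorial := by positivity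
  have key2 : #({g | g.cycleType = Multiset.replicate (j + 1) 2} : Finset (Perm α))
      = Nat.doubleFactorial (2 * j + 1) := by
    apply Nat.eq_of_mul_eq_mul_right hpos
    rw [key]; ring
  rw [key2]
  exact odd_doubleFactorial j

end Cfsg.Agent.Helper95.SylMax.Parity
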