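import Mathlib
import Cfsg.Agent.Lib.Helper95.SylMax.Parity

set_option autoImplicit false
set_option linter.unusedSectionVars false

namespace Cfsg.Agent.Helper95.SylMax.Fpf

open MulAction Equiv
open scoped Pointwise

variable {α : Type*} [Fintype α] [DecidableEq α]
variable {Gt : Type*} [Group Gt] [MulAction Gt α]

/-- A `2`-group acting on a set of even size commutes with a fixed-point-free involution. -/
theorem exists_fpf (R : Subgroup Gt) (hR : IsPGroup 2 R) {h : ℕ} (hh : 1 ≤ h)
    (hα : Fintype.card α = 2 * h) :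
    ∃ τ : Perm α, (∀ x, τ x ≠ x) ∧ (∀ x, τ (τ x) = x) ∧ ∀ g ∈ R, ∀ x, g • τ x = τ (g • x) := by
  classical
  haveI : Fact (Nat.Prime 2) := ⟨Nat.prime_two⟩
  let φ := toPermHom Gt α
  let F := {τ : Perm α // τ.cycleType = Multiset.replicate h 2}
  letI : MulAction R F :=
    { smul := fun g τ => ⟨φ g * τ.1 * (φ g)⁻¹, by rw [Perm.cycleType_conj]; exact τ.2⟩
      one_smul := fun τ => Subtype.ext (by
        show φ ((1 : R) : Gt) * τ.1 * (φ ((1 : R) : Gt))⁻¹ = τ.1
        simp)
      mul_smul := fun g g' τ => Subtype.ext (by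
        show φ ((g * g' : R) : Gt) * τ.1 * (φ ((g * g' : R) : Gt))⁻¹
          = φ g * (φ g' * τ.1 * (φ g')⁻¹) * (φ g)⁻¹
        simp [mul_assoc]) }
  have hcard : ¬ 2 ∣ Nat.card F := by
    rw [Nat.card_eq_fintype_card, Fintype.card_subtype]
    exact Parity.odd_card_fpf hh hα
  obtain ⟨τ, hτ⟩ := hR.nonempty_fixed_point_of_prime_not_dvd_card F hcard
  rw [mem_fixedPoints] at hτ
  refine ⟨τ.1, ?_, ?_, ?_⟩
  · intro x
    have hsupp : τ.1.support.card = Fintype.card α := by
      rw [← Perm.sum_cycleType, τ.2, hα]; simp [mul_comm]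
    have : τ.1.support = Finset.univ := Finset.eq_univ_of_card _ hsupp
    have hx : x ∈ τ.1.support := by rw [this]; exact Finset.mem_univ x
    exact Perm.mem_support.mp hx
  · intro x
    have hord : orderOf τ.1 ∣ 2 := by
      rw [← Perm.lcm_cycleType, τ.2, Multiset.lcm_dvd]
      intro b hb
      rw [Multiset.mem_replicate] at hb
      rw [hb.2]
    have h2 : τ.1 ^ 2 = 1 := orderOf_dvd_iff_pow_eq_one.mp hord
    have : (τ.1 ^ 2) x = x := by rw [h2]; rfl
    simpa [pow_two] using this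
  · intro g hg x
    have h1 := hτ ⟨g, hg⟩
    have h2 : φ g * τ.1 * (φ g)⁻¹ = τ.1 := congrArg Subtype.val h1
    have h3 : φ g * τ.1 = τ.1 * φ g := by
      calc φ g * τ.1 = (φ g * τ.1 * (φ g)⁻¹) * φ g := by group
        _ = τ.1 * φ g := by rw [h2]
    have := congrArg (fun σ : Perm α => σ x) h3
    simpa [φ] using this

end Cfsg.Agent.Helper95.SylMax.Fpf
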