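import Mathlib
import Cfsg.Agent.Lib.Helper95.SylMax.Design

set_option autoImplicit false
set_option linter.unusedSectionVars false

namespace Cfsg.Agent.Helper95.SylMax.Generic

open MulAction Equiv
open scoped Pointwise

variable {α : Type*} [Fintype α] [DecidableEq α]
variable {Gt : Type*} [Group Gt] [MulAction Gt α] [Finite Gt]

/-- The hypotheses shared by `alternatingGroup α` and `Perm α`. -/
structure Good (α : Type*) [Fintype α] [DecidableEq α] (Gt : Type*) [Group Gt] [MulAction Gt α] :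
    Prop where
  htr : ∀ m, IsPretransitive Gt (Set.powersetCard α m)
  hco : ∀ s : Set α, s.Nonempty → sᶜ.Nonempty → Fintype.card α ≠ 2 * s.ncard →
    IsCoatom (stabilizer Gt s)
  heven : ∀ σ : Perm α, σ ∈ alternatingGroup α → ∃ g : Gt, ∀ x, g • x = σ x
  hfaith : ∀ g : Gt, (∀ x : α, g • x = x) → g = 1
  hJ : ∀ M : Subgroup Gt, IsPreprimitive M α → ∀ s : Set α, 2 ≤ s.ncard →
    stabilizer Gt s ≤ M → M = ⊤
  hprim : (Fintype.card α = 5 ∨ 9 ≤ Fintype.card α) →
    ∀ (R : Sylow 2 Gt) (M : Subgroup Gt), (R : Subgroup Gt) ≤ M →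
    (∀ u v u' v' : α, u ≠ v → u' ≠ v' → ∃ g ∈ M, g • u = u' ∧ g • v = v') → M = ⊤

theorem Good.three (hG : Good α Gt) {a b c : α} (hab : a ≠ b) (hac : a ≠ c) (hbc : b ≠ c) :
    ∃ g : Gt, ∀ x, g • x = (swap a b * swap a c) x :=
  hG.heven _ (Perm.isThreeCycle_swap_mul_swap_same hab hac hbc).mem_alternatingGroup

theorem Good.dswap (hG : Good α Gt) {a b c d : α} (hab : a ≠ b) (hcd : c ≠ d) :
    ∃ g : Gt, ∀ x, g • x = (swap a b * swap c d) x := by
  apply hG.heven
  rw [Perm.mem_alternatingGroup, Perm.sign_mul, Perm.sign_swap hab, Perm.sign_swap hcd]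
  rfl

theorem Good.trans (hG : Good α Gt) (hn : 3 ≤ Fintype.card α) (x y : α) :
    ∃ g : Gt, g • x = y := by
  by_cases hxy : x = y
  · exact ⟨1, by rw [one_smul, hxy]⟩
  · have : ∃ z, z ≠ x ∧ z ≠ y := by
      by_contra h
      push_neg at h
      have : (Finset.univ : Finset α) ⊆ {x, y} := by
        intro z _
        by_cases hz : z = x
        · simp [hz]
        · simp [h z hz]
      have := Finset.card_le_card this
      rw [Finset.card_univ, Finset.card_pair hxy] at this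
      omega
    obtain ⟨z, hzx, hzy⟩ := this
    obtain ⟨g, hg⟩ := hG.three (Ne.symm hxy) (Ne.symm hzy) (Ne.symm hzx)
    refine ⟨g, ?_⟩
    rw [hg]
    simp only [Perm.coe_mul, Function.comp_apply]
    rw [swap_apply_of_ne_of_ne hxy (Ne.symm hzx), swap_apply_right]

/-- the centralizer of a permutation inside `Gt` -/
def centr (Gt : Type*) [Group Gt] [MulAction Gt α] (τ : Perm α) : Subgroup Gt where
  carrier := {g | ∀ x, g • τ x = τ (g • x)}
  mul_mem' := by
    intro g h hg hh x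
    rw [mul_smul, mul_smul, hh x, hg]
  one_mem' := by
    intro x; simp
  inv_mem' := by
    intro g hg x
    have h1 := hg (g⁻¹ • x)
    rw [smul_inv_smul] at h1
    rw [← h1, inv_smul_smul]

theorem mem_centr {τ : Perm α} {g : Gt} : g ∈ centr Gt τ ↔ ∀ x, g • τ x = τ (g • x) := Iff.rfl

theorem ncard_pair_le' (p q : α) : ({p, q} : Set α).ncard ≤ 2 := by
  calc ({p, q} : Set α).ncard ≤ ({q} : Set α).ncard + 1 := Set.ncard_insert_le p _
    _ = 2 := by rw [Set.ncard_singleton]

theorem exists_three_of_ncard {S : Set α} (hS : 3 ≤ S.ncard) (p q : α) :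
    ∃ w ∈ S, w ≠ p ∧ w ≠ q := by
  by_contra h
  push_neg at h
  have : S ⊆ {p, q} := by
    intro w hw
    by_cases hp : w = p
    · simp [hp]
    · simp [h w hw hp]
  have h1 := Set.ncard_le_ncard this (Set.toFinite _)
  have h2 : ({p, q} : Set α).ncard ≤ 2 := ncard_pair_le' p q
  omega

theorem exists_four_of_ncard {S : Set α} (hS : 4 ≤ S.ncard) (p q r : α) :
    ∃ w ∈ S, w ≠ p ∧ w ≠ q ∧ w ≠ r := by
  by_contra h
  push_neg at h
  have : S ⊆ {p, q, r} := by
    intro w hw
    by_cases hp : w = p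
    · simp [hp]
    · by_cases hq : w = q
      · simp [hq]
      · simp [h w hw hp hq]
  have h1 := Set.ncard_le_ncard this (Set.toFinite _)
  have h2 : ({p, q, r} : Set α).ncard ≤ 3 := by
    calc ({p, q, r} : Set α).ncard ≤ ({q, r} : Set α).ncard + 1 := Set.ncard_insert_le p _
      _ ≤ 2 + 1 := by
        have := ncard_pair_le' q r
        omega
  omega

/-- blockhood predicate for a single permutation -/
def Blk (B : Set α) (σ : Perm α) : Prop := σ '' B = B ∨ Disjoint (σ '' B) B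

theorem Blk.mem {B : Set α} {σ : Perm α} (h : Blk B σ) {b z : α} (hb : b ∈ B) (hσb : σ b ∈ B)
    (hz : z ∈ B) : σ z ∈ B := by
  rcases h with h | h
  · rw [← h]; exact Set.mem_image_of_mem σ hz
  · exfalso
    exact Set.disjoint_left.mp h (Set.mem_image_of_mem σ hb) hσb

theorem block_contains {S B : Set α} (hS : 4 ≤ S.ncard)
    (hB : ∀ a b c, a ∈ S → b ∈ S → c ∈ S → a ≠ b → a ≠ c → b ≠ c → Blk B (swap a b * swap a c))
    {b1 b2 : α} (h1 : b1 ∈ B) (_h1S : b1 ∈ S) (h2 : b2 ∈ B) (h2S : b2 ∈ S) (hne : b1 ≠ b2) :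
    S ⊆ B := by
  intro z hz
  by_cases hz1 : z = b1
  · rw [hz1]; exact h1
  by_cases hz2 : z = b2
  · rw [hz2]; exact h2
  obtain ⟨w, hw, hwb1, hwb2, hwz⟩ := exists_four_of_ncard hS b1 b2 z
  have hblk := hB b2 w z h2S hw hz (Ne.symm hwb2) (Ne.symm hz2) hwz
  have hfix : (swap b2 w * swap b2 z) b1 = b1 := by
    simp only [Perm.coe_mul, Function.comp_apply]
    rw [swap_apply_of_ne_of_ne hne (Ne.symm hz1), swap_apply_of_ne_of_ne hne (Ne.symm hwb1)]
  have hmap : (swap b2 w * swap b2 z) b2 = z := by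
    simp only [Perm.coe_mul, Function.comp_apply]
    rw [swap_apply_left, swap_apply_of_ne_of_ne hz2 (Ne.symm hwz)]
  have := hblk.mem h1 (by rw [hfix]; exact h1) h2
  rwa [hmap] at this

theorem block_escape {S B : Set α} (hS : 3 ≤ S.ncard)
    (hB : ∀ a b c, a ∈ S → b ∈ S → c ∈ S → a ≠ b → a ≠ c → b ≠ c → Blk B (swap a b * swap a c))
    {b1 u : α} (h1 : b1 ∈ B) (h1S : b1 ∉ S) (hu : u ∈ B) (huS : u ∈ S) :
    S ⊆ B := by
  intro z hz
  by_cases hzu : z = u
  · rw [hzu]; exact hu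
  obtain ⟨w, hw, hwu, hwz⟩ := exists_three_of_ncard hS u z
  have hblk := hB u w z huS hw hz (Ne.symm hwu) (Ne.symm hzu) hwz
  have hb1u : b1 ≠ u := fun h => h1S (h ▸ huS)
  have hb1w : b1 ≠ w := fun h => h1S (h ▸ hw)
  have hb1z : b1 ≠ z := fun h => h1S (h ▸ hz)
  have hfix : (swap u w * swap u z) b1 = b1 := by
    simp only [Perm.coe_mul, Function.comp_apply]
    rw [swap_apply_of_ne_of_ne hb1u hb1z, swap_apply_of_ne_of_ne hb1u hb1w]
  have hmap : (swap u w * swap u z) u = z := by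
    simp only [Perm.coe_mul, Function.comp_apply]
    rw [swap_apply_left, swap_apply_of_ne_of_ne hzu (Ne.symm hwz)]
  have := hblk.mem h1 (by rw [hfix]; exact h1) hu
  rwa [hmap] at this

/-- A set which is a block for all three-cycles inside `A` and inside `Aᶜ` is trivial or one
of `A`, `Aᶜ`. -/
theorem block_cases {A B : Set α} (hA : 4 ≤ A.ncard) (hAc : 4 ≤ Aᶜ.ncard)
    (hB : ∀ a b c, a ∈ A → b ∈ A → c ∈ A → a ≠ b → a ≠ c → b ≠ c → Blk B (swap a b * swap a c))
    (hBc : ∀ a b c, a ∈ Aᶜ → b ∈ Aᶜ → c ∈ Aᶜ → a ≠ b → a ≠ c → b ≠ c →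
      Blk B (swap a b * swap a c)) :
    B.Subsingleton ∨ B = Set.univ ∨ B = A ∨ B = Aᶜ := by
  by_cases hsub : B.Subsingleton
  · exact Or.inl hsub
  right
  rw [Set.not_subsingleton_iff] at hsub
  obtain ⟨b1, h1, b2, h2, hne⟩ := hsub
  by_cases hmeetA : ∃ u ∈ B, u ∈ A
  · by_cases hmeetAc : ∃ v ∈ B, v ∈ Aᶜ
    · -- meets both: everything
      left
      obtain ⟨u, hu, huA⟩ := hmeetA
      obtain ⟨v, hv, hvA⟩ := hmeetAc
      have e1 : A ⊆ B := block_escape (by omega) hB hv (fun h => hvA h) hu huA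
      have e2 : Aᶜ ⊆ B := block_escape (by omega) hBc hu (fun h => h huA) hv hvA
      rw [Set.eq_univ_iff_forall]
      intro z
      by_cases hz : z ∈ A
      · exact e1 hz
      · exact e2 hz
    · -- inside A
      right; left
      push_neg at hmeetAc
      have hBA : B ⊆ A := fun z hz => by
        by_contra h
        exact hmeetAc z hz h
      exact Set.Subset.antisymm hBA (block_contains hA hB h1 (hBA h1) h2 (hBA h2) hne)
  · right; right
    push_neg at hmeetA
    have hBA : B ⊆ Aᶜ := fun z hz => hmeetA z hz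
    exact Set.Subset.antisymm hBA (block_contains hAc hBc h1 (hBA h1) h2 (hBA h2) hne)

/-- bridging: a block of a subgroup is a block for each of its elements. -/
theorem blk_of_isBlock {M : Subgroup Gt} {B : Set α} (hB : IsBlock M B) {g : Gt} (hg : g ∈ M)
    {σ : Perm α} (hσ : ∀ x, g • x = σ x) : Blk B σ := by
  have e : (⟨g, hg⟩ : M) • B = σ '' B := by
    ext y
    rw [Set.mem_smul_set, Set.mem_image]
    constructor
    · rintro ⟨b, hb, rfl⟩
      exact ⟨b, hb, (hσ b).symm⟩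
    · rintro ⟨b, hb, rfl⟩
      exact ⟨b, hb, hσ b⟩
  rcases hB.smul_eq_or_disjoint (⟨g, hg⟩ : M) with h | h
  · left; rw [← e]; exact h
  · right; rw [← e]; exact h

end Cfsg.Agent.Helper95.SylMax.Generic
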