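import Mathlib
import Cfsg.Agent.Lib.Helper95.SylMax.Parity

set_option autoImplicit false
set_option linter.unusedSectionVars false

namespace Cfsg.Agent.Helper95.SylMax.OddIndex

open MulAction Equiv
open scoped Pointwise

variable {α : Type*} [Fintype α] [DecidableEq α]
variable {Gt : Type*} [Group Gt] [MulAction Gt α] [Finite Gt]

/-- An invariant set of a Sylow `2`-subgroup has odd binomial coefficient. -/
theorem not_dvd_choose (htr : ∀ m, IsPretransitive Gt (Set.powersetCard α m)) (R : Sylow 2 Gt)
    (A : Set α) (hR : (R : Subgroup Gt) ≤ stabilizer Gt A) :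
    ¬ 2 ∣ (Fintype.card α).choose A.ncard := by
  classical
  haveI : Fact (Nat.Prime 2) := ⟨Nat.prime_two⟩
  haveI := htr A.ncard
  have hAf : A.toFinset.card = A.ncard := by
    rw [Set.ncard_eq_toFinset_card']
  let s : Set.powersetCard α A.ncard := ⟨A.toFinset, Set.powersetCard.mem_iff.mpr hAf⟩
  have hs : stabilizer Gt s = stabilizer Gt A := by
    rw [Set.powersetCard.stabilizer_coe]
    congr 1
    show ((A.toFinset : Finset α) : Set α) = A
    simp
  have hidx : (stabilizer Gt s).index = (Fintype.card α).choose A.ncard := by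
    rw [index_stabilizer, orbit_eq_univ, Set.ncard_univ, Set.powersetCard.card,
      Nat.card_eq_fintype_card]
  rw [← hidx, hs]
  intro hd
  exact R.not_dvd_index (dvd_trans hd (Subgroup.index_dvd_of_le hR))

end Cfsg.Agent.Helper95.SylMax.OddIndex
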