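import Mathlib
import Cfsg.Agent.Lib.Helper95.SylMax.Generic1
import Cfsg.Agent.Lib.Helper95.SylMax.OddIndex

set_option autoImplicit false
set_option linter.unusedSectionVars false

namespace Cfsg.Agent.Helper95.SylMax.Generic

open MulAction Equiv
open scoped Pointwise

variable {α : Type*} [Fintype α] [DecidableEq α]
variable {Gt : Type*} [Group Gt] [MulAction Gt α] [Finite Gt]

theorem inv_sizes (hG : Good α Gt) {k : ℕ} (hn : Fintype.card α = 2 ^ k + 1) (R : Sylow 2 Gt)
    (A : Set α) (hA : (R : Subgroup Gt) ≤ stabilizer Gt A) :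
    A.ncard = 0 ∨ A.ncard = 1 ∨ A.ncard = 2 ^ k ∨ A.ncard = 2 ^ k + 1 := by
  have := OddIndex.not_dvd_choose hG.htr R A hA
  rw [hn] at this
  exact Parity.choose_two_pow_succ this

theorem le_stabilizer_orbit (M : Subgroup Gt) (x : α) : M ≤ stabilizer Gt (orbit M x) := by
  intro g hg
  rw [mem_stabilizer_iff]
  exact smul_orbit (⟨g, hg⟩ : M) x

theorem stabilizer_singleton_of_fixed {R : Subgroup Gt} {x : α} (hx : ∀ g ∈ R, g • x = x) :
    R ≤ stabilizer Gt ({x} : Set α) := by
  intro g hg
  rw [mem_stabilizer_iff, Set.smul_set_singleton, hx g hg]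

theorem fixed_of_stabilizer_singleton {R : Subgroup Gt} {x : α}
    (h : R ≤ stabilizer Gt ({x} : Set α)) : ∀ g ∈ R, g • x = x := by
  intro g hg
  have := h hg
  rw [mem_stabilizer_iff, Set.smul_set_singleton] at this
  exact Set.singleton_eq_singleton_iff.mp this

/-- the `⇐` direction -/
theorem unique_of_eq (hG : Good α Gt) {k : ℕ} (hk : 2 ≤ k) (hn : Fintype.card α = 2 ^ k + 1)
    (R : Sylow 2 Gt) : ∃! M : Subgroup Gt, IsCoatom M ∧ (R : Subgroup Gt) ≤ M := by
  classical
  haveI : Fact (Nat.Prime 2) := ⟨Nat.prime_two⟩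
  have h4 : 4 ≤ 2 ^ k := by
    calc 4 = 2 ^ 2 := by norm_num
      _ ≤ 2 ^ k := Nat.pow_le_pow_right (by norm_num) hk
  have hsz := inv_sizes hG hn R
  -- the fixed point
  have hodd : ¬ 2 ∣ Nat.card α := by
    rw [Nat.card_eq_fintype_card, hn]
    have : 2 ∣ 2 ^ k := dvd_pow_self 2 (by omega)
    omega
  obtain ⟨inf, hinf⟩ := (R.isPGroup').nonempty_fixed_point_of_prime_not_dvd_card α hodd
  rw [mem_fixedPoints] at hinf
  have hinf' : ∀ g ∈ (R : Subgroup Gt), g • inf = inf := fun g hg => hinf ⟨g, hg⟩
  -- uniqueness of the fixed point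
  have hfix_unique : ∀ x, (∀ g ∈ (R : Subgroup Gt), g • x = x) → x = inf := by
    intro x hx
    by_contra hne
    have hA : (R : Subgroup Gt) ≤ stabilizer Gt ({x, inf} : Set α) := by
      intro g hg
      rw [mem_stabilizer_iff, Set.smul_set_insert, Set.smul_set_singleton, hx g hg, hinf' g hg]
    have := hsz _ hA
    rw [Set.ncard_pair hne] at this
    omega
  have hRM0 : (R : Subgroup Gt) ≤ stabilizer Gt ({inf} : Set α) :=
    stabilizer_singleton_of_fixed hinf'
  have hcompl : ({inf} : Set α)ᶜ.Nonempty := by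
    rw [← Set.ncard_pos, Set.ncard_compl, Set.ncard_singleton, Nat.card_eq_fintype_card, hn]
    omega
  have hM0 : IsCoatom (stabilizer Gt ({inf} : Set α)) := by
    apply hG.hco _ (Set.singleton_nonempty inf) hcompl
    rw [Set.ncard_singleton, hn]
    omega
  refine ⟨stabilizer Gt ({inf} : Set α), ⟨hM0, hRM0⟩, ?_⟩
  rintro M ⟨hM, hRM⟩
  by_cases htrans : ∀ x y : α, ∃ g ∈ M, g • x = y
  · -- transitive case: `M` is 2-transitive, contradiction
    exfalso
    apply hM.1
    have h59 : Fintype.card α = 5 ∨ 9 ≤ Fintype.card α := by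
      rcases Nat.lt_or_ge k 3 with h | h
      · left
        have : k = 2 := by omega
        rw [hn, this]; norm_num
      · right
        have : 2 ^ 3 ≤ 2 ^ k := Nat.pow_le_pow_right (by norm_num) h
        rw [hn]; omega
    apply hG.hprim h59 R M hRM
    -- `R` is transitive off `inf`
    have hRt : ∀ x y : α, x ≠ inf → y ≠ inf → ∃ g ∈ (R : Subgroup Gt), g • x = y := by
      intro x y hx hy
      have hO : (R : Subgroup Gt) ≤ stabilizer Gt (orbit (R : Subgroup Gt) x) :=
        le_stabilizer_orbit _ x
      have hinfO : inf ∉ orbit (R : Subgroup Gt) x := by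
        intro h
        obtain ⟨g, hg⟩ := h
        apply hx
        have : g⁻¹ • inf = x := by
          rw [← hg]; simp
        rw [← this]
        exact hinf g⁻¹
      have hsub : orbit (R : Subgroup Gt) x ⊆ ({inf} : Set α)ᶜ := by
        intro z hz hz'
        rw [Set.mem_singleton_iff] at hz'
        exact hinfO (hz' ▸ hz)
      have hc : ({inf} : Set α)ᶜ.ncard = 2 ^ k := by
        rw [Set.ncard_compl, Set.ncard_singleton, Nat.card_eq_fintype_card, hn]
        omega
      have hle := Set.ncard_le_ncard hsub (Set.toFinite _)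
      have hxO : x ∈ orbit (R : Subgroup Gt) x := mem_orbit_self x
      have hpos : 0 < (orbit (R : Subgroup Gt) x).ncard :=
        (Set.ncard_pos (Set.toFinite _)).mpr ⟨x, hxO⟩
      have h1 : (orbit (R : Subgroup Gt) x).ncard ≠ 1 := by
        intro h1
        obtain ⟨x', hx'⟩ := Set.ncard_eq_one.mp h1
        have hxx : x = x' := by
          rw [hx'] at hxO; exact hxO
        apply hx
        apply hfix_unique
        apply fixed_of_stabilizer_singleton
        rw [hxx, ← hx']
        exact hO
      have hcard : (orbit (R : Subgroup Gt) x).ncard = 2 ^ k := by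
        rcases hsz _ hO with h | h | h | h <;> omega
      have heq : orbit (R : Subgroup Gt) x = ({inf} : Set α)ᶜ :=
        Set.eq_of_subset_of_ncard_le hsub (by rw [hc, hcard]) (Set.toFinite _)
      have hyO : y ∈ orbit (R : Subgroup Gt) x := by
        rw [heq]; exact hy
      obtain ⟨g, hg⟩ := hyO
      exact ⟨g.1, g.2, hg⟩
    intro u v u' v' huv hu'v'
    obtain ⟨g1, hg1, hg1u⟩ := htrans u inf
    obtain ⟨g2, hg2, hg2u⟩ := htrans u' inf
    have hv1 : g1 • v ≠ inf := by
      intro h
      apply huv
      have := h.trans hg1u.symm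
      exact (MulAction.injective g1 this).symm
    have hv2 : g2 • v' ≠ inf := by
      intro h
      apply hu'v'
      have := h.trans hg2u.symm
      exact (MulAction.injective g2 this).symm
    obtain ⟨h, hh, hhv⟩ := hRt (g1 • v) (g2 • v') hv1 hv2
    refine ⟨g2⁻¹ * h * g1, M.mul_mem (M.mul_mem (M.inv_mem hg2) (hRM hh)) hg1, ?_, ?_⟩
    · rw [mul_smul, mul_smul, hg1u, hinf' h hh, ← hg2u, inv_smul_smul]
    · rw [mul_smul, mul_smul, hhv, inv_smul_smul]
  · -- intransitive case
    push_neg at htrans
    obtain ⟨x, y, hxy⟩ := htrans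
    set A : Set α := orbit M x with hAdef
    have hMA : M ≤ stabilizer Gt A := le_stabilizer_orbit M x
    have hxA : x ∈ A := mem_orbit_self x
    have hyA : y ∉ A := by
      rintro ⟨g, hg⟩
      exact hxy g.1 g.2 hg
    have hne_top : stabilizer Gt A ≠ ⊤ := by
      intro htop
      obtain ⟨g0, hg0⟩ := hG.trans (by rw [hn]; omega) x y
      have : g0 ∈ stabilizer Gt A := by rw [htop]; trivial
      rw [mem_stabilizer_iff] at this
      apply hyA
      rw [← this, ← hg0]
      exact Set.smul_mem_smul_set hxA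
    have hMeq : stabilizer Gt A = M := by
      rcases hM.le_iff.mp hMA with h | h
      · exact absurd h hne_top
      · exact h
    have hRA : (R : Subgroup Gt) ≤ stabilizer Gt A := hRM.trans hMA
    have hpos : 0 < A.ncard := (Set.ncard_pos (Set.toFinite _)).mpr ⟨x, hxA⟩
    have hlt : A.ncard < 2 ^ k + 1 := by
      rw [← hn, ← Nat.card_eq_fintype_card, ← Set.ncard_univ]
      apply Set.ncard_lt_ncard _ (Set.toFinite _)
      rw [Set.ssubset_univ_iff]
      intro h
      apply hyA; rw [h]; trivial
    rw [← hMeq]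
    rcases hsz _ hRA with h | h | h | h
    · omega
    · obtain ⟨x', hx'⟩ := Set.ncard_eq_one.mp h
      have : x' = inf := by
        apply hfix_unique
        apply fixed_of_stabilizer_singleton
        rw [← hx']; exact hRA
      rw [hx', this]
    · have hc1 : Aᶜ.ncard = 1 := by
        rw [Set.ncard_compl, Nat.card_eq_fintype_card, hn, h]
        omega
      obtain ⟨x', hx'⟩ := Set.ncard_eq_one.mp hc1
      have : x' = inf := by
        apply hfix_unique
        apply fixed_of_stabilizer_singleton
        rw [← hx', stabilizer_compl]; exact hRA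
      rw [← stabilizer_compl, hx', this]
    · omega

end Cfsg.Agent.Helper95.SylMax.Generic
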