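import Mathlib
import Cfsg.Agent.Lib.Helper95.SylMax.Generic2
import Cfsg.Agent.Lib.Helper95.SylMax.Fpf

set_option autoImplicit false
set_option linter.unusedSectionVars false

namespace Cfsg.Agent.Helper95.SylMax.Generic

open MulAction Equiv
open scoped Pointwise

variable {α : Type*} [Fintype α] [DecidableEq α]
variable {Gt : Type*} [Group Gt] [MulAction Gt α] [Finite Gt]

theorem swap_mem_of_mem {S : Set α} {a b s : α} (ha : a ∈ S) (hb : b ∈ S) (hs : s ∈ S) :
    swap a b s ∈ S := by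
  rw [swap_apply_def]
  split_ifs <;> assumption

/-- an element acting as a permutation which maps `S` into `S` stabilizes `S` -/
theorem mem_stabilizer_of_maps {S : Set α} {g : Gt} {σ : Perm α} (hσ : ∀ x, g • x = σ x)
    (hS : ∀ s ∈ S, σ s ∈ S) : g ∈ stabilizer Gt S := by
  rw [mem_stabilizer_iff]
  apply Set.eq_of_subset_of_ncard_le
  · rintro _ ⟨s, hs, rfl⟩
    show g • s ∈ S
    rw [hσ]; exact hS s hs
  · rw [Set.ncard_smul_set]
  · exact Set.toFinite _

theorem three_mem_stabilizer {S : Set α} {g : Gt} {a b c : α} (ha : a ∈ S) (hb : b ∈ S)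
    (hc : c ∈ S) (hσ : ∀ x, g • x = (swap a b * swap a c) x) : g ∈ stabilizer Gt S := by
  apply mem_stabilizer_of_maps hσ
  intro s hs
  simp only [Perm.coe_mul, Function.comp_apply]
  exact swap_mem_of_mem ha hb (swap_mem_of_mem ha hc hs)

theorem three_mem_stabilizer_compl {S : Set α} {g : Gt} {a b c : α} (ha : a ∉ S) (hb : b ∉ S)
    (hc : c ∉ S) (hσ : ∀ x, g • x = (swap a b * swap a c) x) : g ∈ stabilizer Gt S := by
  rw [← stabilizer_compl]
  exact three_mem_stabilizer (S := Sᶜ) ha hb hc hσ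

theorem g0_mem_centr (hG : Good α Gt) {τ : Perm α} (hτ2 : ∀ x, τ (τ x) = x) {x y : α}
    (hxy : x ≠ y) (h1 : τ x ≠ x) (h2 : τ y ≠ y) (h3 : τ x ≠ y) :
    ∃ g ∈ centr Gt τ, ∀ w, g • w = (swap x y * swap (τ x) (τ y)) w := by
  have hτxy : τ x ≠ τ y := fun h => hxy (τ.injective h)
  obtain ⟨g, hg⟩ := hG.dswap hxy hτxy
  refine ⟨g, ?_, hg⟩
  have h4 : x ≠ τ y := by
    intro h
    apply h3
    rw [h, hτ2]
  have hcomm : τ * (swap x y * swap (τ x) (τ y)) = (swap x y * swap (τ x) (τ y)) * τ := by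
    calc τ * (swap x y * swap (τ x) (τ y))
        = (τ * swap x y) * swap (τ x) (τ y) := by rw [mul_assoc]
      _ = (swap (τ x) (τ y) * τ) * swap (τ x) (τ y) := by rw [mul_swap_eq_swap_mul τ x y]
      _ = swap (τ x) (τ y) * (τ * swap (τ x) (τ y)) := by rw [mul_assoc]
      _ = swap (τ x) (τ y) * (swap (τ (τ x)) (τ (τ y)) * τ) := by
          rw [mul_swap_eq_swap_mul τ (τ x) (τ y)]
      _ = swap (τ x) (τ y) * (swap x y * τ) := by rw [hτ2, hτ2]
      _ = (swap (τ x) (τ y) * swap x y) * τ := by rw [mul_assoc]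
      _ = (swap x y * swap (τ x) (τ y)) * τ := by
          rw [Design.swap_comm_of_ne h1 h3 (Ne.symm h4) h2]
  rw [mem_centr]
  intro w
  rw [hg, hg]
  have := congrArg (fun σ : Perm α => σ w) hcomm
  simp only [Perm.coe_mul, Function.comp_apply] at this
  simp only [Perm.coe_mul, Function.comp_apply]
  exact this.symm

theorem centr_ne_top (hG : Good α Gt) (hn : 3 ≤ Fintype.card α) {τ : Perm α}
    (hτ2 : ∀ x, τ (τ x) = x) (hfpf : ∀ x, τ x ≠ x) : centr Gt τ ≠ ⊤ := by
  intro htop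
  have hne : Nonempty α := by
    rw [← Fintype.card_pos_iff]; omega
  obtain ⟨x⟩ := hne
  have : ∃ z, z ≠ x ∧ z ≠ τ x := by
    by_contra h
    push_neg at h
    have : (Finset.univ : Finset α) ⊆ {x, τ x} := by
      intro z _
      by_cases hz : z = x
      · simp [hz]
      · simp [h z hz]
    have := Finset.card_le_card this
    rw [Finset.card_univ, Finset.card_pair (Ne.symm (hfpf x))] at this
    omega
  obtain ⟨z, hzx, hzτ⟩ := this
  obtain ⟨g, hg⟩ := hG.three (Ne.symm (hfpf x)) (Ne.symm hzx) (Ne.symm hzτ)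
  have hmem : g ∈ centr Gt τ := by rw [htop]; trivial
  rw [mem_centr] at hmem
  have h1 := hmem x
  rw [hg, hg] at h1
  simp only [Perm.coe_mul, Function.comp_apply] at h1
  rw [swap_apply_left, swap_apply_of_ne_of_ne (hfpf x) (Ne.symm hzτ), swap_apply_right,
    swap_apply_of_ne_of_ne hzx hzτ] at h1
  -- h1 : x = τ z
  apply hzτ
  rw [h1, hτ2]

theorem le_centr {R : Subgroup Gt} {τ : Perm α} (h : ∀ g ∈ R, ∀ x, g • τ x = τ (g • x)) :
    R ≤ centr Gt τ := fun g hg => h g hg

theorem two_dvd_card (hG : Good α Gt) (hn : 4 ≤ Fintype.card α) : 2 ∣ Nat.card Gt := by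
  have h4 : ∃ a b c d : α, a ≠ b ∧ a ≠ c ∧ a ≠ d ∧ b ≠ c ∧ b ≠ d ∧ c ≠ d := by
    have : 3 < (Finset.univ : Finset α).card := by rw [Finset.card_univ]; omega
    rw [Finset.three_lt_card_iff] at this
    obtain ⟨a, b, c, d, -, -, -, -, h⟩ := this
    exact ⟨a, b, c, d, h⟩
  obtain ⟨a, b, c, d, hab, hac, had, hbc, hbd, hcd⟩ := h4
  obtain ⟨g, hg⟩ := hG.dswap hab hcd
  have hg1 : g ≠ 1 := by
    intro h
    have := hg a
    rw [h, one_smul] at this
    simp only [Perm.coe_mul, Function.comp_apply] at this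
    rw [swap_apply_of_ne_of_ne hac had, swap_apply_left] at this
    exact hab this
  have hg2 : g ^ 2 = 1 := by
    apply hG.hfaith
    intro x
    rw [pow_two, mul_smul, hg, hg]
    have e : (swap a b * swap c d) * (swap a b * swap c d) = 1 := by
      have e0 := Design.swap_comm_of_ne hac had hbc hbd
      nth_rewrite 2 [e0]
      rw [mul_assoc, ← mul_assoc (swap c d), swap_mul_self, one_mul, swap_mul_self]
    have := congrArg (fun σ : Perm α => σ x) e
    simpa using this
  have hord : orderOf g = 2 := orderOf_eq_prime hg2 hg1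
  rw [← hord]
  exact orderOf_dvd_natCard g

/-- the non-transitive case of `⇒` -/
theorem nontrans_case (hG : Good α Gt) (hn : 5 ≤ Fintype.card α) (R : Sylow 2 Gt)
    (M : Subgroup Gt) (hM : IsCoatom M)
    (hover : ∀ H : Subgroup Gt, (R : Subgroup Gt) ≤ H → H ≠ ⊤ → H ≤ M)
    (hnt : ¬ ∀ x y : α, ∃ g ∈ (R : Subgroup Gt), g • x = y) :
    ∃ k, 2 ≤ k ∧ Fintype.card α = 2 ^ k + 1 := by
  classical
  haveI : Fact (Nat.Prime 2) := ⟨Nat.prime_two⟩
  -- a moved point
  have hRne : (R : Subgroup Gt) ≠ ⊥ := R.ne_bot_of_dvd_card (two_dvd_card hG (by omega))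
  obtain ⟨⟨g, hgR⟩, hg1'⟩ := Subgroup.ne_bot_iff_exists_ne_one.mp hRne
  have hg1 : g ≠ 1 := fun h => hg1' (Subtype.ext h)
  have hmoved : ∃ x : α, g • x ≠ x := by
    by_contra h
    push_neg at h
    exact hg1 (hG.hfaith g h)
  obtain ⟨x, hx⟩ := hmoved
  set O1 : Set α := orbit (R : Subgroup Gt) x with hO1
  have hxO1 : x ∈ O1 := mem_orbit_self x
  have hgxO1 : g • x ∈ O1 := ⟨⟨g, hgR⟩, rfl⟩
  have hRO1 : (R : Subgroup Gt) ≤ stabilizer Gt O1 := le_stabilizer_orbit _ x
  -- `O1` is proper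
  have hO1ne : ∃ y, y ∉ O1 := by
    by_contra h
    push_neg at h
    apply hnt
    intro x' y'
    obtain ⟨g1, hg1⟩ := h x'
    obtain ⟨g2, hg2⟩ := h y'
    refine ⟨(g2 * g1⁻¹ : (R : Subgroup Gt)), (g2 * g1⁻¹).2, ?_⟩
    show (g2 * g1⁻¹) • x' = y'
    rw [← hg1, ← hg2, mul_smul]
    congr 1
    exact inv_smul_smul g1 x
  obtain ⟨y, hy⟩ := hO1ne
  -- size of `O1`
  obtain ⟨a, ha⟩ := (R.isPGroup').card_orbit x
  have ha' : O1.ncard = 2 ^ a := by
    rw [← ha, hO1]; exact (Nat.card_coe_set_eq _).symm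
  have h2O1 : 2 ≤ O1.ncard := by
    rw [Nat.succ_le_iff, Set.one_lt_ncard_iff (Set.toFinite _)]
    exact ⟨g • x, x, hgxO1, hxO1, hx⟩
  have ha1 : 1 ≤ a := by
    by_contra h
    have : a = 0 := by omega
    rw [this] at ha'; omega
  -- coatom
  have hodd := OddIndex.not_dvd_choose hG.htr R O1 hRO1
  have hcard_ne : Fintype.card α ≠ 2 * O1.ncard := by
    intro h
    rw [h] at hodd
    exact hodd (Parity.choose_half (by omega))
  have hco : IsCoatom (stabilizer Gt O1) :=
    hG.hco O1 ⟨x, hxO1⟩ ⟨y, hy⟩ hcard_ne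
  have hMeq : M = stabilizer Gt O1 := by
    rcases hco.le_iff.mp (hover _ hRO1 hco.1) with h | h
    · exact absurd h hM.1
    · exact h
  -- second orbit
  set O2 : Set α := orbit (R : Subgroup Gt) y with hO2
  have hyO2 : y ∈ O2 := mem_orbit_self y
  have hRO2 : (R : Subgroup Gt) ≤ stabilizer Gt O2 := le_stabilizer_orbit _ y
  have hdisj : Disjoint O1 O2 := by
    rcases orbit.eq_or_disjoint (G := (R : Subgroup Gt)) x y with h | h
    · exfalso; apply hy; rw [hO1, h]; exact hyO2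
    · exact h
  have hxO2 : x ∉ O2 := fun h => Set.disjoint_left.mp hdisj hxO1 h
  have hgxO2 : g • x ∉ O2 := fun h => Set.disjoint_left.mp hdisj hgxO1 h
  by_cases hthird : ∃ z, z ∉ O1 ∧ z ∉ O2
  · -- three orbits
    exfalso
    obtain ⟨z, hz1, hz2⟩ := hthird
    have hxz : x ≠ z := fun h => hz1 (h ▸ hxO1)
    have hgxz : g • x ≠ z := fun h => hz1 (h ▸ hgxO1)
    obtain ⟨c, hc⟩ := hG.three (Ne.symm hx) hxz hgxz
    have hcO2 : c ∈ stabilizer Gt O2 := three_mem_stabilizer_compl hxO2 hgxO2 hz2 hc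
    have hne_top : stabilizer Gt O2 ≠ ⊤ := by
      intro htop
      obtain ⟨g0, hg0⟩ := hG.trans (by omega) y x
      have : g0 ∈ stabilizer Gt O2 := by rw [htop]; trivial
      rw [mem_stabilizer_iff] at this
      apply hxO2
      rw [← this, ← hg0]
      exact Set.smul_mem_smul_set hyO2
    have hle := hover _ hRO2 hne_top
    rw [hMeq] at hle
    have hcO1 := hle hcO2
    rw [mem_stabilizer_iff] at hcO1
    have : c • x ∈ O1 := by
      rw [← hcO1]; exact Set.smul_mem_smul_set hxO1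
    rw [hc] at this
    simp only [Perm.coe_mul, Function.comp_apply] at this
    rw [swap_apply_left, swap_apply_of_ne_of_ne (Ne.symm hxz) (Ne.symm hgxz)] at this
    exact hz1 this
  · -- exactly two orbits
    push_neg at hthird
    obtain ⟨b, hb⟩ := (R.isPGroup').card_orbit y
    have hb' : O2.ncard = 2 ^ b := by
      rw [← hb, hO2]; exact (Nat.card_coe_set_eq _).symm
    have huniv : O1 ∪ O2 = Set.univ := by
      rw [Set.eq_univ_iff_forall]
      intro z
      by_cases hz : z ∈ O1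
      · exact Or.inl hz
      · exact Or.inr (hthird z hz)
    have hsum : Fintype.card α = 2 ^ a + 2 ^ b := by
      rw [← ha', ← hb', ← Set.ncard_union_eq hdisj, huniv, Set.ncard_univ,
        Nat.card_eq_fintype_card]
    by_cases hb0 : b = 0
    · refine ⟨a, ?_, by rw [hsum, hb0, pow_zero]⟩
      by_contra h
      have : a = 1 := by omega
      rw [this, hb0] at hsum
      norm_num at hsum
      omega
    · exfalso
      obtain ⟨a', rfl⟩ : ∃ a', a = a' + 1 := ⟨a - 1, by omega⟩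
      obtain ⟨b', rfl⟩ : ∃ b', b = b' + 1 := ⟨b - 1, by omega⟩
      have hh : Fintype.card α = 2 * (2 ^ a' + 2 ^ b') := by
        rw [hsum, pow_succ, pow_succ]; ring
      have hh1 : 1 ≤ 2 ^ a' + 2 ^ b' := by
        have : 0 < 2 ^ a' := by positivity
        omega
      obtain ⟨τ, hfpf, hτ2, hcomm⟩ := Fpf.exists_fpf (R : Subgroup Gt) R.isPGroup' hh1 hh
      have hle := hover _ (le_centr hcomm) (centr_ne_top hG (by omega) hτ2 hfpf)
      have h2O2 : 1 < O2.ncard := by
        rw [hb', pow_succ]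
        have : 0 < 2 ^ b' := by positivity
        omega
      obtain ⟨y1, hy1, hy1τ⟩ := Set.exists_ne_of_one_lt_ncard h2O2 (τ x)
      have hxy1 : x ≠ y1 := fun h => hxO2 (h ▸ hy1)
      obtain ⟨g0, hg0c, hg0⟩ := g0_mem_centr hG hτ2 hxy1 (hfpf x) (hfpf y1) (Ne.symm hy1τ)
      have hg0M := hle hg0c
      rw [hMeq, mem_stabilizer_iff] at hg0M
      have : g0 • x ∈ O1 := by
        rw [← hg0M]; exact Set.smul_mem_smul_set hxO1
      rw [hg0] at this
      simp only [Perm.coe_mul, Function.comp_apply] at this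
      have hxτy1 : x ≠ τ y1 := by
        intro h
        apply hy1τ
        rw [h, hτ2]
      rw [swap_apply_of_ne_of_ne (Ne.symm (hfpf x)) hxτy1, swap_apply_left] at this
      exact Set.disjoint_left.mp hdisj this hy1

end Cfsg.Agent.Helper95.SylMax.Generic
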