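import Mathlib
import Cfsg.Agent.Lib.Helper95.SylMax.Generic3
import Cfsg.Agent.Lib.Helper95.Syl2.Blocks

set_option autoImplicit false
set_option linter.unusedSectionVars false

namespace Cfsg.Agent.Helper95.SylMax.Generic

open MulAction Equiv
open scoped Pointwise

variable {α : Type*} [Fintype α] [DecidableEq α]
variable {Gt : Type*} [Group Gt] [MulAction Gt α] [Finite Gt]

theorem mem_pairStab {A : Set α} {g : Gt} (h : g • A = A ∨ g • A = Aᶜ) :
    g ∈ stabilizer Gt ({A, Aᶜ} : Set (Set α)) := by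
  rw [mem_stabilizer_iff, Set.smul_set_insert, Set.smul_set_singleton, Set.smul_set_compl]
  rcases h with h | h
  · rw [h]
  · rw [h, compl_compl, Set.pair_comm]

theorem of_mem_pairStab {A : Set α} {g : Gt}
    (h : g ∈ stabilizer Gt ({A, Aᶜ} : Set (Set α))) : g • A = A ∨ g • A = Aᶜ := by
  have h1 : g • A ∈ g • ({A, Aᶜ} : Set (Set α)) :=
    Set.smul_mem_smul_set (Set.mem_insert _ _)
  rw [mem_stabilizer_iff.mp h] at h1
  simpa using h1

/-- the transitive case of `⇒` -/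
theorem trans_case (hG : Good α Gt) (hn : 5 ≤ Fintype.card α) (R : Sylow 2 Gt)
    (M : Subgroup Gt) (hM : IsCoatom M) (hRM : (R : Subgroup Gt) ≤ M)
    (hover : ∀ H : Subgroup Gt, (R : Subgroup Gt) ≤ H → H ≠ ⊤ → H ≤ M)
    (ht : ∀ x y : α, ∃ g ∈ (R : Subgroup Gt), g • x = y) : False := by
  classical
  haveI : Fact (Nat.Prime 2) := ⟨Nat.prime_two⟩
  have hne : Nonempty α := by
    rw [← Fintype.card_pos_iff]; omega
  obtain ⟨x0⟩ := hne
  have horb : orbit (R : Subgroup Gt) x0 = Set.univ := by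
    rw [Set.eq_univ_iff_forall]
    intro y
    obtain ⟨g, hg, hgy⟩ := ht x0 y
    exact ⟨⟨g, hg⟩, hgy⟩
  obtain ⟨k, hk⟩ := (R.isPGroup').card_orbit x0
  have hcard : Fintype.card α = 2 ^ k := by
    rw [← hk, Nat.card_coe_set_eq, horb, Set.ncard_univ, Nat.card_eq_fintype_card]
  have hk3 : 3 ≤ k := by
    by_contra h
    have h2 : k ≤ 2 := by omega
    have : 2 ^ k ≤ 2 ^ 2 := Nat.pow_le_pow_right (by norm_num) h2
    omega
  obtain ⟨k', rfl⟩ : ∃ k', k = k' + 1 := ⟨k - 1, by omega⟩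
  have hk'2 : 2 ≤ k' := by omega
  have h4 : 4 ≤ 2 ^ k' := by
    calc 4 = 2 ^ 2 := by norm_num
      _ ≤ 2 ^ k' := Nat.pow_le_pow_right (by norm_num) hk'2
  have hcard2 : Fintype.card α = 2 * 2 ^ k' := by rw [hcard, pow_succ]; ring
  obtain ⟨τ, hfpf, hτ2, hcomm⟩ :=
    Fpf.exists_fpf (R : Subgroup Gt) R.isPGroup' (by omega : 1 ≤ 2 ^ k') hcard2
  -- the block
  let φ := toPermHom Gt α
  let R' : Subgroup (Perm α) := (R : Subgroup Gt).map φ
  have hR' : IsPGroup 2 R' := R.isPGroup'.map φ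
  have horb' : orbit R' x0 = Set.univ := by
    rw [Set.eq_univ_iff_forall]
    intro y
    obtain ⟨g, hg, hgy⟩ := ht x0 y
    exact ⟨⟨φ g, Subgroup.mem_map_of_mem φ hg⟩, hgy⟩
  obtain ⟨A, hx0A, hAcard, hAblk⟩ := Syl2.exists_block R' hR' x0 k' (by
    rw [horb', Set.ncard_univ, Nat.card_eq_fintype_card, hcard]
    exact Nat.pow_le_pow_right (by norm_num) (by omega))
  have hAc : Aᶜ.ncard = 2 ^ k' := by
    rw [Set.ncard_compl, Nat.card_eq_fintype_card, hcard2, hAcard]; omega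
  have hRA : ∀ g ∈ (R : Subgroup Gt), g • A = A ∨ g • A = Aᶜ := by
    intro g hg
    have e : (⟨φ g, Subgroup.mem_map_of_mem φ hg⟩ : R') • A = g • A := rfl
    rcases hAblk.smul_eq_or_disjoint (⟨φ g, Subgroup.mem_map_of_mem φ hg⟩ : R') with h | h
    · left; rw [← e]; exact h
    · right
      rw [e] at h
      apply Set.eq_of_subset_of_ncard_le
      · exact Set.subset_compl_iff_disjoint_right.mpr h
      · rw [Set.ncard_smul_set, hAc, hAcard]
      · exact Set.toFinite _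
  -- the two overgroups
  have hH2R : (R : Subgroup Gt) ≤ stabilizer Gt ({A, Aᶜ} : Set (Set α)) :=
    fun g hg => mem_pairStab (hRA g hg)
  have hH2ne : stabilizer Gt ({A, Aᶜ} : Set (Set α)) ≠ ⊤ := by
    intro htop
    obtain ⟨w, hwA, hwx0⟩ := Set.exists_ne_of_one_lt_ncard (by omega : 1 < A.ncard) x0
    obtain ⟨p, hpA, hpx0, hpw⟩ := exists_three_of_ncard (by omega : 3 ≤ A.ncard) x0 w
    obtain ⟨v, hv⟩ : Aᶜ.Nonempty := by
      rw [← Set.ncard_pos, hAc]; omega
    have hvx0 : v ≠ x0 := fun h => hv (h ▸ hx0A)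
    have hvw : v ≠ w := fun h => hv (h ▸ hwA)
    have hvp : v ≠ p := fun h => hv (h ▸ hpA)
    obtain ⟨c, hc⟩ := hG.three (Ne.symm hwx0) (Ne.symm hvx0) (Ne.symm hvw)
    have hcmem : c ∈ stabilizer Gt ({A, Aᶜ} : Set (Set α)) := by rw [htop]; trivial
    have hcx0 : c • x0 = v := by
      rw [hc]
      simp only [Perm.coe_mul, Function.comp_apply]
      rw [swap_apply_left, swap_apply_of_ne_of_ne hvx0 hvw]
    have hcp : c • p = p := by
      rw [hc]
      simp only [Perm.coe_mul, Function.comp_apply]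
      rw [swap_apply_of_ne_of_ne hpx0 (Ne.symm hvp), swap_apply_of_ne_of_ne hpx0 hpw]
    rcases of_mem_pairStab hcmem with h | h
    · have : c • x0 ∈ A := by rw [← h]; exact Set.smul_mem_smul_set hx0A
      rw [hcx0] at this
      exact hv this
    · have : c • p ∈ Aᶜ := by rw [← h]; exact Set.smul_mem_smul_set hpA
      rw [hcp] at this
      exact this hpA
  have hH2M := hover _ hH2R hH2ne
  have hstabM : stabilizer Gt A ≤ M := by
    intro g hg
    apply hH2M
    exact mem_pairStab (Or.inl (mem_stabilizer_iff.mp hg))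
  have hcM := hover _ (le_centr hcomm) (centr_ne_top hG (by omega) hτ2 hfpf)
  -- the special element
  obtain ⟨y, hyA, hyτ⟩ := Set.exists_ne_of_one_lt_ncard (by omega : 1 < Aᶜ.ncard) (τ x0)
  have hx0y : x0 ≠ y := fun h => hyA (h ▸ hx0A)
  obtain ⟨g0, hg0c, hg0⟩ := g0_mem_centr hG hτ2 hx0y (hfpf x0) (hfpf y) (Ne.symm hyτ)
  have hg0M : g0 ∈ M := hcM hg0c
  have hx0τy : x0 ≠ τ y := by
    intro h
    apply hyτ
    rw [h, hτ2]
  have hg0x0 : (swap x0 y * swap (τ x0) (τ y)) x0 = y := by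
    simp only [Perm.coe_mul, Function.comp_apply]
    rw [swap_apply_of_ne_of_ne (Ne.symm (hfpf x0)) hx0τy, swap_apply_left]
  have hg0y : (swap x0 y * swap (τ x0) (τ y)) y = x0 := by
    simp only [Perm.coe_mul, Function.comp_apply]
    rw [swap_apply_of_ne_of_ne hyτ (Ne.symm (hfpf y)), swap_apply_right]
  have hg0fix : ∀ w, w ≠ x0 → w ≠ y → w ≠ τ x0 → w ≠ τ y →
      (swap x0 y * swap (τ x0) (τ y)) w = w :=
    fun w h1 h2 h3 h4 => Design.apply_of_not_mem h1 h2 h3 h4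
  -- primitivity of `M`
  haveI : IsPretransitive M α := ⟨fun x y => by
    obtain ⟨g, hg, h⟩ := ht x y
    exact ⟨⟨g, hRM hg⟩, h⟩⟩
  have hprim : IsPreprimitive M α := by
    refine ⟨?_⟩
    intro B hB
    have hBA : ∀ a b c, a ∈ A → b ∈ A → c ∈ A → a ≠ b → a ≠ c → b ≠ c →
        Blk B (swap a b * swap a c) := by
      intro a b c ha hb hc hab hac hbc
      obtain ⟨g, hg⟩ := hG.three hab hac hbc
      exact blk_of_isBlock hB (hstabM (three_mem_stabilizer ha hb hc hg)) hg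
    have hBAc : ∀ a b c, a ∈ Aᶜ → b ∈ Aᶜ → c ∈ Aᶜ → a ≠ b → a ≠ c → b ≠ c →
        Blk B (swap a b * swap a c) := by
      intro a b c ha hb hc hab hac hbc
      obtain ⟨g, hg⟩ := hG.three hab hac hbc
      exact blk_of_isBlock hB (hstabM (three_mem_stabilizer_compl ha hb hc hg)) hg
    have hB0 : Blk B (swap x0 y * swap (τ x0) (τ y)) := blk_of_isBlock hB hg0M hg0
    rcases block_cases (by omega) (by omega) hBA hBAc with h | h | h | h
    · exact Or.inl h
    · exact Or.inr h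
    · exfalso
      obtain ⟨w, hw, hw1, hw2, hw3⟩ := exists_four_of_ncard (by omega : 4 ≤ A.ncard) x0 (τ x0) (τ y)
      have hwy : w ≠ y := fun h => hyA (h ▸ hw)
      rw [h] at hB0
      have := hB0.mem hw (by rw [hg0fix w hw1 hwy hw2 hw3]; exact hw) hx0A
      rw [hg0x0] at this
      exact hyA this
    · exfalso
      obtain ⟨w, hw, hw1, hw2, hw3⟩ := exists_four_of_ncard (by omega : 4 ≤ Aᶜ.ncard) y (τ x0) (τ y)
      have hwx0 : w ≠ x0 := fun h => hw (h ▸ hx0A)
      rw [h] at hB0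
      have := hB0.mem hw (by rw [hg0fix w hwx0 hw1 hw2 hw3]; exact hw) hyA
      rw [hg0y] at this
      exact this hx0A
  exact hM.1 (hG.hJ M hprim A (by omega) hstabM)

/-- the `⇒` direction -/
theorem exists_of_unique (hG : Good α Gt) (hn : 5 ≤ Fintype.card α) (R : Sylow 2 Gt)
    (huniq : ∃! M : Subgroup Gt, IsCoatom M ∧ (R : Subgroup Gt) ≤ M) :
    ∃ k, 2 ≤ k ∧ Fintype.card α = 2 ^ k + 1 := by
  obtain ⟨M, ⟨hM, hRM⟩, hMu⟩ := huniq
  have hover : ∀ H : Subgroup Gt, (R : Subgroup Gt) ≤ H → H ≠ ⊤ → H ≤ M := by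
    intro H hRH hH
    rcases eq_top_or_exists_le_coatom H with h | ⟨M', hM', hHM'⟩
    · exact absurd h hH
    · have := hMu M' ⟨hM', hRH.trans hHM'⟩
      rw [← this]; exact hHM'
  by_cases ht : ∀ x y : α, ∃ g ∈ (R : Subgroup Gt), g • x = y
  · exact (trans_case hG hn R M hM hRM hover ht).elim
  · exact nontrans_case hG hn R M hM hover ht

/-- the generic theorem -/
theorem main (hG : Good α Gt) (hn : 5 ≤ Fintype.card α) (R : Sylow 2 Gt) :
    (∃! M : Subgroup Gt, IsCoatom M ∧ (R : Subgroup Gt) ≤ M) ↔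
      ∃ k, 2 ≤ k ∧ Fintype.card α = 2 ^ k + 1 :=
  ⟨exists_of_unique hG hn R, fun ⟨_, hk, hc⟩ => unique_of_eq hG hk hc R⟩

end Cfsg.Agent.Helper95.SylMax.Generic
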