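import Mathlib
import Cfsg.Agent.Lib.Helper95.SylMax.InstV4
import Cfsg.Agent.Lib.Helper95.SylMax.Generic4

set_option autoImplicit false
set_option linter.unusedSectionVars false

namespace Cfsg.Agent.Helper95.SylMax.InstAlt

open MulAction Equiv
open scoped Pointwise

variable {α : Type*} [Fintype α] [DecidableEq α]

theorem isPGroup_zpowers_of_sq {G : Type*} [Group G] {x : G} (hx : x ^ 2 = 1) :
    IsPGroup 2 (Subgroup.zpowers x) := by
  intro g
  obtain ⟨g, hg⟩ := g
  obtain ⟨i, rfl⟩ := Subgroup.mem_zpowers_iff.mp hg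
  refine ⟨1, Subtype.ext ?_⟩
  show (x ^ i) ^ 2 ^ 1 = 1
  rw [pow_one, ← zpow_natCast, ← zpow_mul, mul_comm, zpow_mul, zpow_natCast, hx, one_zpow]

/-- two commuting involutions generate a `2`-group -/
theorem isPGroup_sup_of_comm {G : Type*} [Group G] {x y : G} (hx : x ^ 2 = 1) (hy : y ^ 2 = 1)
    (hxy : Commute x y) : IsPGroup 2 (Subgroup.zpowers x ⊔ Subgroup.zpowers y : Subgroup G) := by
  haveI : Fact (Nat.Prime 2) := ⟨Nat.prime_two⟩
  apply IsPGroup.to_sup_of_normal_right' (isPGroup_zpowers_of_sq hx) (isPGroup_zpowers_of_sq hy)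
  intro g hg
  obtain ⟨i, rfl⟩ := Subgroup.mem_zpowers_iff.mp hg
  rw [Subgroup.mem_normalizer_iff]
  intro h
  constructor
  · intro hh
    obtain ⟨j, rfl⟩ := Subgroup.mem_zpowers_iff.mp hh
    have : x ^ i * y ^ j * (x ^ i)⁻¹ = y ^ j := by
      have hc : Commute (x ^ i) (y ^ j) := (hxy.zpow_left i).zpow_right j
      rw [hc.eq, mul_inv_cancel_right]
    rw [this]; exact hh
  · intro hh
    obtain ⟨j, hj⟩ := Subgroup.mem_zpowers_iff.mp hh
    have : h = y ^ j := by
      have hc : Commute (x ^ i) (y ^ j) := (hxy.zpow_left i).zpow_right j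
      have h1 : h = (x ^ i)⁻¹ * (x ^ i * h * (x ^ i)⁻¹) * x ^ i := by group
      rw [h1, ← hj, mul_assoc, ← hc.eq, inv_mul_cancel_left]
    rw [this]; exact Subgroup.zpow_mem_zpowers y j

/-- A `2`-transitive subgroup of the alternating group containing a Sylow `2`-subgroup is
everything (degree `5` or `≥ 9`). -/
theorem hprim_alt (hn : Fintype.card α = 5 ∨ 9 ≤ Fintype.card α)
    (R : Sylow 2 (alternatingGroup α)) (M : Subgroup (alternatingGroup α))
    (hRM : (R : Subgroup (alternatingGroup α)) ≤ M)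
    (h2 : ∀ u v u' v' : α, u ≠ v → u' ≠ v' → ∃ g ∈ M, g • u = u' ∧ g • v = v') : M = ⊤ := by
  classical
  haveI : Fact (Nat.Prime 2) := ⟨Nat.prime_two⟩
  have hcard4 : 4 ≤ Fintype.card α := by omega
  have h4 : ∃ a b c d : α, a ≠ b ∧ a ≠ c ∧ a ≠ d ∧ b ≠ c ∧ b ≠ d ∧ c ≠ d := by
    have : 3 < (Finset.univ : Finset α).card := by rw [Finset.card_univ]; omega
    rw [Finset.three_lt_card_iff] at this
    obtain ⟨a, b, c, d, -, -, -, -, h⟩ := this
    exact ⟨a, b, c, d, h⟩
  obtain ⟨a, b, c, d, hab, hac, had, hbc, hbd, hcd⟩ := h4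
  have memA : ∀ {p q r s : α}, p ≠ q → r ≠ s → swap p q * swap r s ∈ alternatingGroup α := by
    intro p q r s hpq hrs
    rw [Perm.mem_alternatingGroup, Perm.sign_mul, Perm.sign_swap hpq, Perm.sign_swap hrs]
    rfl
  let x : alternatingGroup α := ⟨swap a b * swap c d, memA hab hcd⟩
  let y : alternatingGroup α := ⟨swap a c * swap b d, memA hac hbd⟩
  have hx2 : x ^ 2 = 1 := by
    apply Subtype.ext
    show (swap a b * swap c d) ^ 2 = 1
    rw [pow_two]; exact InstV4.dswap_sq hac had hbc hbd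
  have hy2 : y ^ 2 = 1 := by
    apply Subtype.ext
    show (swap a c * swap b d) ^ 2 = 1
    rw [pow_two]; exact InstV4.dswap_sq hab had (Ne.symm hbc) hcd
  have hxy1 : (swap a b * swap c d) * (swap a c * swap b d) = swap a d * swap b c :=
    InstV4.dswap_mul hab hac had hbc hbd hcd
  have hyx1 : (swap a c * swap b d) * (swap a b * swap c d) = swap a d * swap b c := by
    rw [InstV4.dswap_mul hac hab had (Ne.symm hbc) hcd hbd, swap_comm c b]
  have hcomm : Commute x y := by
    apply Subtype.ext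
    show (swap a b * swap c d) * (swap a c * swap b d) = (swap a c * swap b d) * (swap a b * swap c d)
    rw [hxy1, hyx1]
  have hV := isPGroup_sup_of_comm hx2 hy2 hcomm
  obtain ⟨g, hg⟩ := InstV4.exists_conj_le R _ hV
  have hxV : x ∈ (Subgroup.zpowers x ⊔ Subgroup.zpowers y : Subgroup (alternatingGroup α)) :=
    (le_sup_left : Subgroup.zpowers x ≤ _) (Subgroup.mem_zpowers x)
  have hyV : y ∈ (Subgroup.zpowers x ⊔ Subgroup.zpowers y : Subgroup (alternatingGroup α)) :=
    (le_sup_right : Subgroup.zpowers y ≤ _) (Subgroup.mem_zpowers y)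
  have hxyV := Subgroup.mul_mem _ hxV hyV
  -- the image of `M`
  let K : Subgroup (Perm α) := M.map (alternatingGroup α).subtype
  have hK : ∀ m ∈ M, (m : Perm α) ∈ K := fun m hm => Subgroup.mem_map_of_mem _ hm
  have conj_eq : ∀ p q r s : α, (g : Perm α) * (swap p q * swap r s) * (g : Perm α)⁻¹
      = swap ((g : Perm α) p) ((g : Perm α) q) * swap ((g : Perm α) r) ((g : Perm α) s) := by
    intro p q r s
    rw [swap_apply_apply, swap_apply_apply]; group
  have k1 : swap ((g : Perm α) a) ((g : Perm α) b) * swap ((g : Perm α) c) ((g : Perm α) d) ∈ K := by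
    rw [← conj_eq]
    exact hK _ (hRM (hg x hxV))
  have k2 : swap ((g : Perm α) a) ((g : Perm α) c) * swap ((g : Perm α) b) ((g : Perm α) d) ∈ K := by
    rw [← conj_eq]
    exact hK _ (hRM (hg y hyV))
  have k3 : swap ((g : Perm α) a) ((g : Perm α) d) * swap ((g : Perm α) b) ((g : Perm α) c) ∈ K := by
    rw [← conj_eq, ← hxy1]
    exact hK _ (hRM (hg (x * y) hxyV))
  have inj : ∀ {p q : α}, p ≠ q → (g : Perm α) p ≠ (g : Perm α) q :=
    fun h h' => h ((g : Perm α).injective h')
  have hVS := InstV4.VS_of_three (inj hab) (inj hac) (inj had) (inj hbc) (inj hbd) (inj hcd) k1 k2 k3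
  have h2K : ∀ u v u' v' : α, u ≠ v → u' ≠ v' → ∃ σ ∈ K, σ u = u' ∧ σ v = v' := by
    intro u v u' v' huv hu'v'
    obtain ⟨m, hm, h1, h2⟩ := h2 u v u' v' huv hu'v'
    exact ⟨(m : Perm α), hK m hm, h1, h2⟩
  obtain ⟨σ, hσK, hσ3⟩ := Design.exists_three_cycle hn h2K hVS
  -- primitivity
  have h2M : IsMultiplyPretransitive M α 2 := by
    rw [is_two_pretransitive_iff]
    intro u v u' v' huv hu'v'
    obtain ⟨m, hm, h1, h2⟩ := h2 u v u' v' huv hu'v'
    exact ⟨⟨m, hm⟩, h1, h2⟩
  have hMprim : IsPreprimitive M α := isPreprimitive_of_is_two_pretransitive h2M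
  rw [eq_top_iff, ← Subgroup.map_subtype_le_map_subtype,
    ← MonoidHom.range_eq_map, Subgroup.range_subtype]
  apply Equiv.Perm.alternatingGroup_le_of_isPreprimitive_of_isThreeCycle_mem _ hσ3 hσK
  let φ := (alternatingGroup α).subtype.subgroupMap M
  let f : α →ₑ[φ] α := {
    toFun := id
    map_smul' _ _ := rfl }
  rwa [← isPreprimitive_congr (f := f) ((alternatingGroup α).subtype.subgroupMap_surjective M)
    Function.bijective_id]

theorem good_alt (hn : 5 ≤ Fintype.card α) : Generic.Good α (alternatingGroup α) where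
  htr := fun m => Set.powersetCard.isPretransitive_alternatingGroup
    (by rw [Nat.card_eq_fintype_card]; omega)
  hco := fun s h0 h1 hs => alternatingGroup.isCoatom_stabilizer h0 h1
    (by rw [Nat.card_eq_fintype_card]; exact hs)
  heven := fun σ hσ => ⟨⟨σ, hσ⟩, fun _ => rfl⟩
  hfaith := fun g hg => Subtype.ext (Perm.ext hg)
  hJ := fun M hM s _ hs =>
    @alternatingGroup.subgroup_eq_top_of_isPreprimitive α _ _
      (by rw [Nat.card_eq_fintype_card]; omega) M hM s hs
  hprim := hprim_alt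

end Cfsg.Agent.Helper95.SylMax.InstAlt
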