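import Mathlib
import Cfsg.Agent.Lib.Helper95.SylMax.InstAlt

set_option autoImplicit false
set_option linter.unusedSectionVars false

namespace Cfsg.Agent.Helper95.SylMax.InstPerm

open MulAction Equiv
open scoped Pointwise

variable {α : Type*} [Fintype α] [DecidableEq α]

theorem hprim_perm (hn : 2 ≤ Fintype.card α)
    (R : Sylow 2 (Perm α)) (M : Subgroup (Perm α))
    (hRM : (R : Subgroup (Perm α)) ≤ M)
    (h2 : ∀ u v u' v' : α, u ≠ v → u' ≠ v' → ∃ g ∈ M, g • u = u' ∧ g • v = v') : M = ⊤ := by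
  classical
  haveI : Fact (Nat.Prime 2) := ⟨Nat.prime_two⟩
  have h2' : ∃ a b : α, a ≠ b := by
    have : 1 < (Finset.univ : Finset α).card := by rw [Finset.card_univ]; omega
    rw [Finset.one_lt_card_iff] at this
    obtain ⟨a, b, -, -, h⟩ := this
    exact ⟨a, b, h⟩
  obtain ⟨a, b, hab⟩ := h2'
  have hx2 : (swap a b) ^ 2 = 1 := by rw [pow_two, swap_mul_self]
  obtain ⟨g, hg⟩ := InstV4.exists_conj_le R _ (InstAlt.isPGroup_zpowers_of_sq hx2)
  have hmem : swap (g a) (g b) ∈ M := by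
    rw [swap_apply_apply]
    exact hRM (hg _ (Subgroup.mem_zpowers _))
  have h2M : IsMultiplyPretransitive M α 2 := by
    rw [is_two_pretransitive_iff]
    intro u v u' v' huv hu'v'
    obtain ⟨m, hm, h1, h2⟩ := h2 u v u' v' huv hu'v'
    exact ⟨⟨m, hm⟩, h1, h2⟩
  have hMprim : IsPreprimitive M α := isPreprimitive_of_is_two_pretransitive h2M
  exact Equiv.Perm.subgroup_eq_top_of_isPreprimitive_of_isSwap_mem hMprim _
    ⟨g a, g b, fun h => hab (g.injective h), rfl⟩ hmem

theorem good_perm (hn : 5 ≤ Fintype.card α) : Generic.Good α (Perm α) where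
  htr := fun _ => Set.powersetCard.isPretransitive
  hco := fun s h0 h1 hs => Equiv.Perm.isCoatom_stabilizer h0 h1
    (by rw [Nat.card_eq_fintype_card]; exact hs)
  heven := fun σ _ => ⟨σ, fun _ => rfl⟩
  hfaith := fun g hg => Perm.ext hg
  hJ := fun M hM s hs hsM => by
    obtain ⟨a, b, ha, hb, hab⟩ := (Set.one_lt_ncard_iff (Set.toFinite s)).mp hs
    exact Equiv.Perm.subgroup_eq_top_of_isPreprimitive_of_isSwap_mem hM (swap a b)
      ⟨a, b, hab, rfl⟩ (hsM (Equiv.Perm.swap_mem_stabilizer ha hb))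
  hprim := fun _ => hprim_perm (by omega)

end Cfsg.Agent.Helper95.SylMax.InstPerm
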